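import Cfsg.Agent.Lib.FiTwentyThreeMax.Defs

/-! The stabilizer chain data. -/

namespace Cfsg.Agent.Lib.FiTwentyThreeMax

set_option maxRecDepth 10000

/-- a level -/
noncomputable def lvA : Level :=
  { base := [], pt := 278, orbit := [278, 156, 93, 68, 251, 84, 130, 108, 190, 163, 290, 299, 117, 67, 194, 270, 70, 20, 282, 271, 213, 207, 109, 198, 44, 208, 101, 225, 140, 174, 39, 77, 102, 19, 164, 142, 41, 236, 166, 296, 238, 16, 160, 8, 30, 243, 309, 66, 36, 211, 200, 86, 215, 281, 88, 308, 153, 57, 115, 259, 203, 185, 317, 292, 31, 145, 288, 106, 227, 100, 6, 131, 314, 79, 74, 98, 165, 116, 105, 9, 182, 247, 65, 162, 122, 94, 300, 141, 149, 170, 111, 54, 301, 24, 321, 272, 240, 23, 232, 234, 186, 33, 255, 132, 139, 177, 81, 85, 233, 128, 239, 172, 212, 157, 264, 195, 193, 312, 11, 52, 144, 62, 159, 147, 168, 25, 241, 305, 58, 97, 298, 112, 151, 226, 231, 22, 268, 5, 13, 37, 217, 262, 179, 34, 249, 27, 178, 91, 245, 40, 184, 237,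 103, 175, 61, 14, 293, 10, 48, 28, 261, 289, 78, 127, 90, 158, 73, 51, 187, 95, 224, 18, 294, 64, 307, 82, 254, 2, 4, 201, 253, 180, 267, 205, 230, 221, 189, 99, 206, 283, 242, 183, 280, 55, 148, 313, 63, 248, 304, 47, 246, 118, 311, 135, 310, 181, 133, 154, 235, 59, 143, 69, 204, 287, 316, 12, 273, 269, 1, 286, 137, 32, 123, 155, 188, 265, 83, 134, 284, 297, 17, 218, 191, 119, 125, 171, 196, 104, 45, 114, 169, 129, 219, 323, 38, 197, 80, 50, 252, 121, 319, 71, 176, 120, 173, 302, 35, 202, 126, 26, 76, 303, 315, 209, 124, 279, 322, 7, 75, 256, 15, 192, 275, 291, 244, 258, 43, 318, 216, 161, 21, 257, 96, 277, 214, 3, 0, 49, 266, 46, 110, 222, 306, 53, 210, 107, 89, 152, 228, 146, 274, 295, 150, 320, 285, 92, 229, 113, 263, 42, 220, 138, 87, 60, 136, 250, 167, 260, 72, 56, 276, 199, 223, 29], par := [(0, 0), (0, 0), (0, 1), (1, 0), (1, 1), (2, 0), (2, 1), (3, 0), (3, 1), (4, 0), (4, 1), (5, 0), (5, 1), (6, 0), (6, 1), (7, 0), (7, 1),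 (8, 0), (8, 1), (9, 0), (9, 1), (10, 0), (10, 1), (11, 0), (11, 1), (12, 0), (12, 1), (13, 0), (13, 1), (14, 0), (14, 1), (15, 1), (16, 0), (16, 1), (17, 0), (17, 1), (18, 0), (18, 1), (19, 1), (20, 0), (20, 1), (21, 0), (21, 1), (22, 0), (22, 1), (23, 0), (23, 1), (24, 0), (25, 0), (25, 1), (26, 0), (26, 1), (27, 0), (28, 0), (28, 1), (29, 0), (29, 1), (30, 0), (30, 1), (31, 0), (31, 1), (32, 0), (32, 1), (33, 1), (34, 0), (34, 1), (35, 0), (35, 1), (36, 0), (36, 1), (37, 0), (37, 1), (38, 0), (38, 1), (39, 0), (39, 1), (40, 1), (41, 0), (41, 1), (42, 0), (42, 1), (43, 0), (43, 1), (44, 0), (44, 1), (45, 0), (45, 1), (46, 0), (46, 1), (47, 0), (47, 1), (48, 0), (48, 1), (50, 0), (50, 1), (51, 0), (51, 1), (52, 0), (52, 1), (53, 0), (54, 0), (54, 1), (55, 0), (55, 1), (56, 0), (56, 1), (57, 0), (58, 0), (59, 0), (60, 0), (60, 1), (61, 0), (62, 1), (63, 0), (63, 1), (64, 0), (64, 1), (65, 1), (66, 0), (67, 0), (67, 1), (68, 0), (68,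 1), (69, 0), (69, 1), (70, 0), (70, 1), (71, 0), (71, 1), (72, 0), (72, 1), (73, 0), (73, 1), (74, 0), (74, 1), (75, 0), (75, 1), (76, 0), (76, 1), (77, 0), (78, 1), (79, 0), (79, 1), (80, 0), (80, 1), (81, 0), (81, 1), (82, 1), (83, 0), (84, 1), (85, 1), (86, 1), (87, 0), (87, 1), (89, 1), (90, 1), (91, 0), (91, 1), (92, 1), (93, 0), (93, 1), (94, 0), (94, 1), (96, 0), (96, 1), (97, 1), (99, 1), (100, 0), (100, 1), (101, 1), (102, 0), (102, 1), (103, 0), (103, 1), (104, 0), (104, 1), (105, 1), (106, 0), (108, 0), (108, 1), (109, 1), (110, 0), (111, 0), (111, 1), (112, 0), (112, 1), (113, 1), (114, 0), (115, 1), (116, 0), (117, 0), (117, 1), (118, 1), (119, 0), (119, 1), (120, 1), (121, 0), (121, 1), (122, 0), (122, 1), (123, 0), (124, 0), (124, 1), (125, 1), (126, 1), (127, 0), (127, 1), (128, 0), (128, 1), (130, 0), (130, 1), (131, 1), (132, 0), (132, 1), (133, 1), (134, 1), (135, 0), (135, 1), (136, 0), (136, 1), (139, 0), (139,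 1), (140, 0), (141, 1), (142, 0), (142, 1), (143, 0), (143, 1), (144, 0), (144, 1), (145, 1), (147, 1), (148, 0), (149, 0), (151, 0), (152, 1), (153, 0), (154, 0), (155, 0), (156, 1), (157, 0), (158, 0), (159, 0), (159, 1), (160, 1), (161, 0), (161, 1), (162, 0), (162, 1), (163, 0), (163, 1), (164, 0), (166, 0), (168, 0), (168, 1), (169, 1), (170, 0), (170, 1), (173, 1), (176, 1), (178, 0), (178, 1), (179, 1), (180, 1), (181, 0), (181, 1), (182, 0), (182, 1), (183, 0), (185, 0), (186, 0), (188, 0), (188, 1), (191, 0), (192, 1), (193, 0), (194, 0), (194, 1), (195, 1), (197, 1), (198, 0), (200, 1), (201, 0), (201, 1), (202, 1), (203, 1), (206, 0), (207, 0), (208, 1), (210, 0), (211, 1), (212, 0), (213, 0), (215, 1), (218, 1), (219, 0), (221, 0), (222, 0), (222, 1), (225, 1), (227, 0), (229, 0), (230, 0), (231, 0), (233, 0), (233, 1), (237, 1), (241, 1), (243, 0), (248, 0), (248, 1), (255, 0), (258, 0), (260, 0), (260, 1), (268, 0),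 (268, 1), (273, 0), (274, 0), (277, 0), (293, 0), (295, 0), (306, 0), (307, 1)], gens := [0, 1], ops := [], tests := [] }

/-- a level -/
noncomputable def lvB : Level :=
  { base := [278], pt := 48, orbit := [48, 37, 25, 166, 302, 24, 208, 176, 123, 154, 144, 256, 127, 213, 26, 47, 167, 155, 290, 29, 143, 197, 270, 182, 157, 268, 2], par := [(0, 0), (0, 0), (0, 1), (1, 1), (1, 2), (2, 0), (2, 1), (2, 2), (3, 0), (3, 1), (3, 2), (4, 2), (5, 0), (5, 1), (5, 2), (6, 0), (7, 0), (7, 1), (8, 0), (8, 1), (9, 2), (10, 0), (10, 1), (11, 2), (13, 2), (16, 2), (18, 0)], gens := [2, 3, 4], ops := [], tests := [(1, 0, some 0), (0, 1, none)] }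

/-- a level -/
noncomputable def lvC : Level :=
  { base := [278, 48], pt := 244, orbit := [244, 191, 128, 249, 177, 165, 282, 248, 318, 240, 310, 294, 263, 219, 55, 210, 280, 86, 198, 178, 194, 265, 266, 14, 295, 151, 49, 72, 118, 255, 223, 105, 67, 237, 11, 293, 199, 203, 299, 23, 221, 232, 63, 209, 175, 84, 242, 98, 220, 106, 61, 159, 77, 142, 195, 247, 103, 147, 168, 34, 104, 7, 241, 52, 68, 315, 138, 130, 81, 38, 207, 20, 313, 12, 286, 308, 171, 131, 277, 36, 253, 79, 129, 216, 316, 262, 90, 283, 227, 139, 59, 321, 225, 140, 121, 273, 62, 89, 125, 257, 243, 39, 146, 153, 231, 46, 272, 306, 320, 289, 188, 50, 169, 65, 6, 287, 233, 234, 115, 101, 301, 92, 314, 120, 252, 281, 264, 57, 160, 70, 205, 132, 64, 93, 78, 28, 230, 4, 200, 312, 285, 73, 95, 54, 251, 323, 236, 181, 16, 9, 267, 134, 288, 113, 149, 117, 136, 137, 217, 161, 100, 0, 83, 82, 319, 212, 235, 66, 260, 87, 245, 109, 183, 22, 119, 292, 309, 300, 246, 33, 102, 305,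 108, 307, 21, 258, 271, 30, 71, 133, 228, 27, 122, 173, 322, 158, 162, 317, 291, 18, 56, 189, 254, 91, 298, 126, 239, 75, 40, 164, 110, 275, 60, 150, 172, 229, 19, 51, 186, 88, 116, 111, 97, 274, 35, 193, 145, 80, 114, 99, 238, 259, 303, 180, 215, 170, 156, 53, 58, 276, 296, 279, 297, 74, 206, 190, 13, 17, 261, 15, 124, 31, 107, 201, 311, 152, 69, 184, 44, 112, 32, 226, 222, 202, 85, 141, 218, 3, 187, 96, 10, 211, 43, 1, 163, 196, 224, 94, 304, 76, 174, 214, 204, 8, 135, 284, 5, 250], par := [(0, 0), (0, 0), (0, 1), (1, 0), (1, 1), (1, 2), (2, 0), (2, 1), (2, 2), (3, 0), (3, 1), (3, 2), (4, 0), (4, 1), (4, 2), (5, 1), (5, 2), (6, 0), (6, 1), (6, 2), (7, 0), (7, 1), (7, 2), (8, 0), (8, 2), (9, 1), (9, 2), (10, 0), (10, 1), (10, 2), (11, 0), (11, 1), (11, 2), (12, 1), (12, 2), (13, 1), (13, 2), (14, 0), (14, 1), (15, 0), (15, 2), (16, 0), (16, 1), (16, 2), (17, 0), (17, 2), (18, 0), (18, 1), (18, 2), (19, 0), (19, 1), (19, 2), (20,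 0), (20, 1), (21, 1), (22, 0), (22, 1), (23, 0), (23, 1), (23, 2), (24, 0), (24, 1), (25, 0), (25, 1), (25, 2), (26, 2), (27, 1), (27, 2), (28, 0), (30, 1), (30, 2), (31, 0), (31, 1), (32, 0), (32, 2), (33, 0), (33, 2), (34, 0), (34, 1), (34, 2), (35, 1), (36, 0), (36, 1), (36, 2), (37, 0), (37, 1), (37, 2), (38, 0), (38, 1), (38, 2), (39, 1), (39, 2), (40, 0), (40, 1), (40, 2), (41, 0), (41, 1), (42, 0), (42, 1), (42, 2), (43, 0), (44, 1), (44, 2), (45, 0), (45, 2), (46, 0), (46, 2), (47, 0), (47, 1), (47, 2), (48, 0), (48, 2), (49, 1), (49, 2), (50, 1), (50, 2), (51, 1), (52, 1), (53, 0), (53, 1), (53, 2), (54, 2), (55, 1), (55, 2), (56, 0), (56, 2), (58, 0), (58, 2), (59, 0), (59, 1), (59, 2), (60, 1), (61, 0), (61, 1), (61, 2), (62, 0), (62, 2), (63, 0), (63, 2), (64, 0), (64, 1), (65, 2), (66, 0), (66, 1), (66, 2), (67, 1), (67, 2), (68, 1), (69, 0), (69, 1), (69, 2), (70, 0), (70, 1), (70, 2), (71, 1), (72, 0), (73, 1), (73,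 2), (74, 0), (75, 0), (75, 2), (76, 0), (76, 2), (77, 0), (77, 1), (77, 2), (78, 0), (79, 1), (79, 2), (80, 2), (81, 1), (81, 2), (82, 0), (82, 2), (83, 0), (84, 1), (84, 2), (85, 0), (85, 1), (86, 0), (86, 1), (86, 2), (87, 0), (87, 2), (88, 0), (88, 2), (89, 1), (90, 0), (90, 2), (91, 0), (92, 1), (95, 0), (95, 1), (96, 0), (96, 1), (97, 0), (97, 1), (99, 1), (99, 2), (100, 0), (100, 1), (100, 2), (101, 0), (102, 0), (102, 1), (103, 1), (104, 0), (105, 2), (106, 1), (106, 2), (107, 0), (107, 2), (109, 0), (109, 1), (109, 2), (110, 1), (113, 0), (115, 0), (115, 2), (117, 0), (118, 2), (121, 2), (122, 1), (122, 2), (124, 1), (130, 0), (130, 1), (131, 0), (131, 2), (133, 0), (136, 0), (138, 0), (143, 2), (144, 0), (144, 1), (145, 2), (146, 0), (147, 0), (149, 2), (151, 2), (152, 0), (152, 2), (153, 0), (157, 1), (160, 0), (160, 1), (161, 2), (162, 2), (163, 0), (164, 1), (164, 2), (165, 1), (165, 2), (166, 0), (166, 2), (167, 0), (167,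 1), (168, 2), (169, 0), (170, 2), (171, 2), (173, 2), (175, 0), (175, 2), (179, 2), (181, 2), (182, 0), (182, 1), (186, 1), (188, 0), (194, 0), (195, 0), (197, 0), (203, 0), (205, 2), (207, 0), (210, 2), (217, 1), (225, 1), (226, 0), (226, 2), (227, 0), (230, 2), (235, 0), (246, 0), (250, 1), (260, 2), (263, 0)], gens := [5, 6, 7], ops := [(1, 2), (0, 3)], tests := [(3, 4, none), (2, 4, some 4)] }

/-- a level -/
noncomputable def lvD : Level :=
  { base := [278, 48, 244], pt := 2, orbit := [2, 155, 25, 208, 29, 176, 127, 123], par := [(0, 0), (0, 0), (0, 1), (1, 0), (2, 1), (3, 1), (4, 1), (6, 1)], gens := [8, 7], ops := [(0, 2), (1, 2), (1, 3), (2, 3), (1, 7), (2, 6), (3, 5), (4, 6)], tests := [(0, 11, some 9), (10, 8, none)] }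

/-- a level -/
noncomputable def lvE : Level :=
  { base := [278, 48, 244, 2], pt := 176, orbit := [176, 123, 25, 155, 208, 29], par := [(0, 0), (0, 0), (0, 1), (1, 0), (1, 1), (2, 0)], gens := [9, 4], ops := [(0, 2), (1, 2), (2, 3), (2, 4), (3, 4), (1, 7), (1, 8), (3, 6), (3, 8), (4, 7), (5, 9), (0, 10), (0, 11), (1, 13), (1, 14), (1, 15)], tests := [(16, 20, some 17), (18, 19, none), (10, 14, none), (12, 14, none)] }

/-- a level -/
noncomputable def lvF : Level :=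
  { base := [278, 48, 244, 2, 176], pt := 0, orbit := [0, 242, 91, 264, 54, 61, 70, 80, 110], par := [(0, 0), (0, 0), (0, 1), (1, 0), (1, 1), (2, 1), (3, 1), (4, 1), (6, 1)], gens := [10, 11], ops := [(0, 2), (0, 5), (1, 2), (1, 4), (1, 5), (2, 3), (2, 4), (2, 5), (3, 5), (4, 5), (0, 10), (0, 13), (1, 11), (1, 14), (5, 9), (5, 11), (6, 15), (7, 8), (7, 9), (7, 22), (12, 16), (17, 20), (19, 23), (21, 24), (2, 27), (2, 29)], tests := [(26, 28, some 31), (30, 18, some 25)] }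

end Cfsg.Agent.Lib.FiTwentyThreeMax
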