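import Cfsg.Agent.Lib.FiTwentyThreeMax.Defs
import Cfsg.Agent.Lib.FiTwentyThreeMax.Levels

/-! Checks by evaluation. -/

set_option Elab.async false
set_option maxRecDepth 10000

namespace Cfsg.Agent.Lib.FiTwentyThreeMax

open Cfsg.Agent.Lib.CosetTable

theorem z0_sq : eqB (z0w ++ z0w) [] = true := by decide +kernel

theorem z0_subs : allL (fun s => eqB (z0w ++ s) (s ++ z0w)) Fi23m.cert.subs = true := by
  decide +kernel

theorem fpt_ok : rangeAll fptOK 324 0 = true := by decide +kernel

theorem spath_ok : rangeAll (fun k => andB (lw (spath.getD k []))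
    (Nat.beq (wk (spath.getD k []) 0) (fpt (natAt sidx k)))) 5 0 = true := by decide +kernel

theorem sidx_lt : allL (fun s => Nat.blt s 324) sidx = true := by decide +kernel

theorem sidx_zero : sidx.length = 5 ∧ natAt sidx 0 = 0 := by decide +kernel

theorem levelA_ok : levelOK lvA = true := by decide +kernel
theorem levelB_ok : levelOK lvB = true := by decide +kernel
theorem levelC_ok : levelOK lvC = true := by decide +kernel
theorem levelD_ok : levelOK lvD = true := by decide +kernel
theorem levelE_ok : levelOK lvE = true := by decide +kernel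
theorem levelF_ok : levelOK lvF = true := by decide +kernel

theorem perms_ok : permTab.all (fun e => autOK e.1 e.2) = true := by decide +kernel

theorem zw_ok : (lw zw && rangeAll (fun i => Nat.beq (wk zw (fpt i)) (fpt i)) 324 0 &&
    Nat.beq (wk zw 0) (natAt zImgs 1) && Nat.beq (wk zw (natAt zImgs 1)) (natAt zImgs 2)) = true := by
  decide +kernel

end Cfsg.Agent.Lib.FiTwentyThreeMax
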