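import Cfsg.Agent.Lib.FiTwentyThreeMax.Defs

/-! Checks by evaluation. -/

set_option Elab.async false
set_option maxRecDepth 10000

namespace Cfsg.Agent.Lib.FiTwentyThreeMax

open Cfsg.Agent.Lib.CosetTable

theorem code_ok_0 : rangeAll codeOK 1024 0 = true := by decide +kernel

theorem code_ok_1024 : rangeAll codeOK 1024 1024 = true := by decide +kernel

theorem code_ok_2048 : rangeAll codeOK 1024 2048 = true := by decide +kernel

theorem code_ok_3072 : rangeAll codeOK 1024 3072 = true := by decide +kernel

theorem code_ok_4096 : rangeAll codeOK 1024 4096 = true := by decide +kernel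

theorem code_ok_5120 : rangeAll codeOK 1024 5120 = true := by decide +kernel

theorem code_ok_6144 : rangeAll codeOK 1024 6144 = true := by decide +kernel

theorem code_ok_7168 : rangeAll codeOK 1024 7168 = true := by decide +kernel

theorem code_ok_8192 : rangeAll codeOK 1024 8192 = true := by decide +kernel

theorem code_ok_9216 : rangeAll codeOK 1024 9216 = true := by decide +kernel

theorem code_ok_10240 : rangeAll codeOK 1024 10240 = true := by decide +kernel

theorem code_ok_11264 : rangeAll codeOK 1024 11264 = true := by decide +kernel

theorem code_ok_12288 : rangeAll codeOK 1024 12288 = true := by decide +kernel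

theorem code_ok_13312 : rangeAll codeOK 1024 13312 = true := by decide +kernel

theorem code_ok_14336 : rangeAll codeOK 1024 14336 = true := by decide +kernel

theorem code_ok_15360 : rangeAll codeOK 1024 15360 = true := by decide +kernel

end Cfsg.Agent.Lib.FiTwentyThreeMax
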