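import Cfsg.Agent.Lib.FiTwentyThreeMax.Defs

/-! Checks by evaluation. -/

set_option Elab.async false
set_option maxRecDepth 10000

namespace Cfsg.Agent.Lib.FiTwentyThreeMax

open Cfsg.Agent.Lib.CosetTable

theorem probe_ok_16384 : rangeAll probeOK 1024 16384 = true := by decide +kernel

theorem probe_ok_17408 : rangeAll probeOK 1024 17408 = true := by decide +kernel

theorem probe_ok_18432 : rangeAll probeOK 1024 18432 = true := by decide +kernel

theorem probe_ok_19456 : rangeAll probeOK 1024 19456 = true := by decide +kernel

theorem probe_ok_20480 : rangeAll probeOK 1024 20480 = true := by decide +kernel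

theorem probe_ok_21504 : rangeAll probeOK 1024 21504 = true := by decide +kernel

theorem probe_ok_22528 : rangeAll probeOK 1024 22528 = true := by decide +kernel

theorem probe_ok_23552 : rangeAll probeOK 1024 23552 = true := by decide +kernel

theorem probe_ok_24576 : rangeAll probeOK 1024 24576 = true := by decide +kernel

theorem probe_ok_25600 : rangeAll probeOK 1024 25600 = true := by decide +kernel

theorem probe_ok_26624 : rangeAll probeOK 1024 26624 = true := by decide +kernel

theorem probe_ok_27648 : rangeAll probeOK 1024 27648 = true := by decide +kernel

theorem probe_ok_28672 : rangeAll probeOK 1024 28672 = true := by decide +kernel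

theorem probe_ok_29696 : rangeAll probeOK 1024 29696 = true := by decide +kernel

theorem probe_ok_30720 : rangeAll probeOK 951 30720 = true := by decide +kernel

end Cfsg.Agent.Lib.FiTwentyThreeMax
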