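import Cfsg.Agent.Lib.FiTwentyThreeMax.ChecksZA
import Cfsg.Agent.Lib.FiTwentyThreeMax.ChecksZB
import Cfsg.Agent.Lib.FiTwentyThreeMax.ChecksCodeA
import Cfsg.Agent.Lib.FiTwentyThreeMax.ChecksCodeB
import Cfsg.Agent.Lib.FiTwentyThreeMax.ChecksProbeA
import Cfsg.Agent.Lib.FiTwentyThreeMax.ChecksProbeB
import Cfsg.Agent.Lib.CosetTable.Sound

/-! The chunked checks put together. -/

namespace Cfsg.Agent.Lib.FiTwentyThreeMax

open Cfsg.Agent.Lib.CosetTable

theorem z_ok : ∀ i, i < 31671 → zOK i = true := by
  intro i hi
  by_cases h15 : i < 15360
  · by_cases h7 : i < 7168
    · by_cases h3 : i < 3072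
      · by_cases h1 : i < 1024
        · exact rangeAll_spec z_ok_0 i (by omega) (by omega)
        by_cases h2 : i < 2048
        · exact rangeAll_spec z_ok_1024 i (by omega) (by omega)
        exact rangeAll_spec z_ok_2048 i (by omega) (by omega)
      by_cases h5 : i < 5120
      · by_cases h4 : i < 4096
        · exact rangeAll_spec z_ok_3072 i (by omega) (by omega)
        exact rangeAll_spec z_ok_4096 i (by omega) (by omega)
      by_cases h6 : i < 6144
      · exact rangeAll_spec z_ok_5120 i (by omega) (by omega)
      exact rangeAll_spec z_ok_6144 i (by omega) (by omega)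
    by_cases h11 : i < 11264
    · by_cases h9 : i < 9216
      · by_cases h8 : i < 8192
        · exact rangeAll_spec z_ok_7168 i (by omega) (by omega)
        exact rangeAll_spec z_ok_8192 i (by omega) (by omega)
      by_cases h10 : i < 10240
      · exact rangeAll_spec z_ok_9216 i (by omega) (by omega)
      exact rangeAll_spec z_ok_10240 i (by omega) (by omega)
    by_cases h13 : i < 13312
    · by_cases h12 : i < 12288
      · exact rangeAll_spec z_ok_11264 i (by omega) (by omega)
      exact rangeAll_spec z_ok_12288 i (by omega) (by omega)
    by_cases h14 : i < 14336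
    · exact rangeAll_spec z_ok_13312 i (by omega) (by omega)
    exact rangeAll_spec z_ok_14336 i (by omega) (by omega)
  by_cases h23 : i < 23552
  · by_cases h19 : i < 19456
    · by_cases h17 : i < 17408
      · by_cases h16 : i < 16384
        · exact rangeAll_spec z_ok_15360 i (by omega) (by omega)
        exact rangeAll_spec z_ok_16384 i (by omega) (by omega)
      by_cases h18 : i < 18432
      · exact rangeAll_spec z_ok_17408 i (by omega) (by omega)
      exact rangeAll_spec z_ok_18432 i (by omega) (by omega)
    by_cases h21 : i < 21504
    · by_cases h20 : i < 20480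
      · exact rangeAll_spec z_ok_19456 i (by omega) (by omega)
      exact rangeAll_spec z_ok_20480 i (by omega) (by omega)
    by_cases h22 : i < 22528
    · exact rangeAll_spec z_ok_21504 i (by omega) (by omega)
    exact rangeAll_spec z_ok_22528 i (by omega) (by omega)
  by_cases h27 : i < 27648
  · by_cases h25 : i < 25600
    · by_cases h24 : i < 24576
      · exact rangeAll_spec z_ok_23552 i (by omega) (by omega)
      exact rangeAll_spec z_ok_24576 i (by omega) (by omega)
    by_cases h26 : i < 26624
    · exact rangeAll_spec z_ok_25600 i (by omega) (by omega)
    exact rangeAll_spec z_ok_26624 i (by omega) (by omega)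
  by_cases h29 : i < 29696
  · by_cases h28 : i < 28672
    · exact rangeAll_spec z_ok_27648 i (by omega) (by omega)
    exact rangeAll_spec z_ok_28672 i (by omega) (by omega)
  by_cases h30 : i < 30720
  · exact rangeAll_spec z_ok_29696 i (by omega) (by omega)
  exact rangeAll_spec z_ok_30720 i (by omega) (by omega)

theorem code_ok : ∀ i, i < 31671 → codeOK i = true := by
  intro i hi
  by_cases h15 : i < 15360
  · by_cases h7 : i < 7168
    · by_cases h3 : i < 3072
      · by_cases h1 : i < 1024
        · exact rangeAll_spec code_ok_0 i (by omega) (by omega)
        by_cases h2 : i < 2048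
        · exact rangeAll_spec code_ok_1024 i (by omega) (by omega)
        exact rangeAll_spec code_ok_2048 i (by omega) (by omega)
      by_cases h5 : i < 5120
      · by_cases h4 : i < 4096
        · exact rangeAll_spec code_ok_3072 i (by omega) (by omega)
        exact rangeAll_spec code_ok_4096 i (by omega) (by omega)
      by_cases h6 : i < 6144
      · exact rangeAll_spec code_ok_5120 i (by omega) (by omega)
      exact rangeAll_spec code_ok_6144 i (by omega) (by omega)
    by_cases h11 : i < 11264
    · by_cases h9 : i < 9216
      · by_cases h8 : i < 8192
        · exact rangeAll_spec code_ok_7168 i (by omega) (by omega)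
        exact rangeAll_spec code_ok_8192 i (by omega) (by omega)
      by_cases h10 : i < 10240
      · exact rangeAll_spec code_ok_9216 i (by omega) (by omega)
      exact rangeAll_spec code_ok_10240 i (by omega) (by omega)
    by_cases h13 : i < 13312
    · by_cases h12 : i < 12288
      · exact rangeAll_spec code_ok_11264 i (by omega) (by omega)
      exact rangeAll_spec code_ok_12288 i (by omega) (by omega)
    by_cases h14 : i < 14336
    · exact rangeAll_spec code_ok_13312 i (by omega) (by omega)
    exact rangeAll_spec code_ok_14336 i (by omega) (by omega)
  by_cases h23 : i < 23552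
  · by_cases h19 : i < 19456
    · by_cases h17 : i < 17408
      · by_cases h16 : i < 16384
        · exact rangeAll_spec code_ok_15360 i (by omega) (by omega)
        exact rangeAll_spec code_ok_16384 i (by omega) (by omega)
      by_cases h18 : i < 18432
      · exact rangeAll_spec code_ok_17408 i (by omega) (by omega)
      exact rangeAll_spec code_ok_18432 i (by omega) (by omega)
    by_cases h21 : i < 21504
    · by_cases h20 : i < 20480
      · exact rangeAll_spec code_ok_19456 i (by omega) (by omega)
      exact rangeAll_spec code_ok_20480 i (by omega) (by omega)
    by_cases h22 : i < 22528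
    · exact rangeAll_spec code_ok_21504 i (by omega) (by omega)
    exact rangeAll_spec code_ok_22528 i (by omega) (by omega)
  by_cases h27 : i < 27648
  · by_cases h25 : i < 25600
    · by_cases h24 : i < 24576
      · exact rangeAll_spec code_ok_23552 i (by omega) (by omega)
      exact rangeAll_spec code_ok_24576 i (by omega) (by omega)
    by_cases h26 : i < 26624
    · exact rangeAll_spec code_ok_25600 i (by omega) (by omega)
    exact rangeAll_spec code_ok_26624 i (by omega) (by omega)
  by_cases h29 : i < 29696
  · by_cases h28 : i < 28672
    · exact rangeAll_spec code_ok_27648 i (by omega) (by omega)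
    exact rangeAll_spec code_ok_28672 i (by omega) (by omega)
  by_cases h30 : i < 30720
  · exact rangeAll_spec code_ok_29696 i (by omega) (by omega)
  exact rangeAll_spec code_ok_30720 i (by omega) (by omega)

theorem probe_ok : ∀ i, i < 31671 → probeOK i = true := by
  intro i hi
  by_cases h15 : i < 15360
  · by_cases h7 : i < 7168
    · by_cases h3 : i < 3072
      · by_cases h1 : i < 1024
        · exact rangeAll_spec probe_ok_0 i (by omega) (by omega)
        by_cases h2 : i < 2048
        · exact rangeAll_spec probe_ok_1024 i (by omega) (by omega)
        exact rangeAll_spec probe_ok_2048 i (by omega) (by omega)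
      by_cases h5 : i < 5120
      · by_cases h4 : i < 4096
        · exact rangeAll_spec probe_ok_3072 i (by omega) (by omega)
        exact rangeAll_spec probe_ok_4096 i (by omega) (by omega)
      by_cases h6 : i < 6144
      · exact rangeAll_spec probe_ok_5120 i (by omega) (by omega)
      exact rangeAll_spec probe_ok_6144 i (by omega) (by omega)
    by_cases h11 : i < 11264
    · by_cases h9 : i < 9216
      · by_cases h8 : i < 8192
        · exact rangeAll_spec probe_ok_7168 i (by omega) (by omega)
        exact rangeAll_spec probe_ok_8192 i (by omega) (by omega)
      by_cases h10 : i < 10240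
      · exact rangeAll_spec probe_ok_9216 i (by omega) (by omega)
      exact rangeAll_spec probe_ok_10240 i (by omega) (by omega)
    by_cases h13 : i < 13312
    · by_cases h12 : i < 12288
      · exact rangeAll_spec probe_ok_11264 i (by omega) (by omega)
      exact rangeAll_spec probe_ok_12288 i (by omega) (by omega)
    by_cases h14 : i < 14336
    · exact rangeAll_spec probe_ok_13312 i (by omega) (by omega)
    exact rangeAll_spec probe_ok_14336 i (by omega) (by omega)
  by_cases h23 : i < 23552
  · by_cases h19 : i < 19456
    · by_cases h17 : i < 17408
      · by_cases h16 : i < 16384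
        · exact rangeAll_spec probe_ok_15360 i (by omega) (by omega)
        exact rangeAll_spec probe_ok_16384 i (by omega) (by omega)
      by_cases h18 : i < 18432
      · exact rangeAll_spec probe_ok_17408 i (by omega) (by omega)
      exact rangeAll_spec probe_ok_18432 i (by omega) (by omega)
    by_cases h21 : i < 21504
    · by_cases h20 : i < 20480
      · exact rangeAll_spec probe_ok_19456 i (by omega) (by omega)
      exact rangeAll_spec probe_ok_20480 i (by omega) (by omega)
    by_cases h22 : i < 22528
    · exact rangeAll_spec probe_ok_21504 i (by omega) (by omega)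
    exact rangeAll_spec probe_ok_22528 i (by omega) (by omega)
  by_cases h27 : i < 27648
  · by_cases h25 : i < 25600
    · by_cases h24 : i < 24576
      · exact rangeAll_spec probe_ok_23552 i (by omega) (by omega)
      exact rangeAll_spec probe_ok_24576 i (by omega) (by omega)
    by_cases h26 : i < 26624
    · exact rangeAll_spec probe_ok_25600 i (by omega) (by omega)
    exact rangeAll_spec probe_ok_26624 i (by omega) (by omega)
  by_cases h29 : i < 29696
  · by_cases h28 : i < 28672
    · exact rangeAll_spec probe_ok_27648 i (by omega) (by omega)
    exact rangeAll_spec probe_ok_28672 i (by omega) (by omega)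
  by_cases h30 : i < 30720
  · exact rangeAll_spec probe_ok_29696 i (by omega) (by omega)
  exact rangeAll_spec probe_ok_30720 i (by omega) (by omega)

end Cfsg.Agent.Lib.FiTwentyThreeMax
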