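import Cfsg.Agent.Lib.CosetTable.Fi23m.Data
import Cfsg.Agent.Lib.CosetTable.Fi23Simple.Data
import Cfsg.Agent.Lib.FiTwentyThreeMax.Data

/-! Checkers for a maximal subgroup of the presented group Fi23. -/

namespace Cfsg.Agent.Lib.FiTwentyThreeMax

open Cfsg.Agent.Lib.CosetTable

/-- all letters are generators -/
noncomputable def lw (w : List ℕ) : Bool := allL (fun a => Nat.blt a 10) w

/-- follow a word -/
noncomputable def wk (w : List ℕ) (p : ℕ) : ℕ := Fi23m.tab.walk w p

/-- image of `p` under the transposition of the end point of the path `x` -/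
noncomputable def tAct (x : List ℕ) (p : ℕ) : ℕ :=
  force (wk x.reverse p) fun i => force (at16 zTab i) fun j => wk x j

/-- the word of the transposition of the end point of the path `x` -/
noncomputable def tword (x : List ℕ) : List ℕ := x.reverse ++ z0w ++ x

/-- a word fixes the base -/
noncomputable def fixB (w : List ℕ) : Bool :=
  allL (fun q => Fi23m.tab.fixOK [w] (q.1.get 0)) Fi23Simple.levels

/-- two words give the same element -/
noncomputable def eqB (l r : List ℕ) : Bool :=
  andB (lw r) (andB (lw (r.reverse ++ l)) (fixB (r.reverse ++ l)))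

/-- table check for the transposition of point 0 -/
noncomputable def zOK (p : ℕ) : Bool := Nat.beq (at16 zTab p) (wk z0w p)

/-- path check -/
noncomputable def pOK (x : List ℕ) (q : ℕ) : Bool := andB (lw x) (Nat.beq (wk x 0) q)

/-- member `i` -/
noncomputable def fpt (i : ℕ) : ℕ := at16 fTab i

/-- conjugation table -/
noncomputable def op (a b : ℕ) : ℕ := at16 (opTab.leafAt a) b

noncomputable def cKind (c : ℕ) : ℕ := Nat.land c 7
noncomputable def cVal (c : ℕ) : ℕ := Nat.land (Nat.shiftRight c 3) 32767
noncomputable def cRank (c : ℕ) : ℕ := Nat.shiftRight c 18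
noncomputable def codeAt (p : ℕ) : ℕ := at24 codeTab p

/-- member `i` is found in the code table -/
noncomputable def fptOK (i : ℕ) : Bool :=
  force (fpt i) fun p => andB (Nat.blt p 31671)
    (force (codeAt p) fun c => andB (Nat.beq (cKind c) 6) (Nat.beq (cVal c) i))

/-- code entry of a point -/
noncomputable def codeOK (p : ℕ) : Bool :=
  force (codeAt p) fun c => force (cKind c) fun k => force (cVal c) fun v =>
    iteB (Nat.beq k 6) (andB (Nat.blt v 324) (Nat.beq (fpt v) p))
      (iteB (Nat.beq k 7) (andB (Nat.blt v 5) (Nat.beq (natAt reps v) p))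
        (andB (Nat.blt k 5) (andB (Nat.blt v 31671)
          (andB (Nat.beq (tAct (spath.getD k []) p) v) (Nat.blt (cRank (codeAt v)) (cRank c))))))

/-- rows of the five generating members -/
noncomputable def genRowOK (k i : ℕ) : Bool :=
  andB (Nat.blt (op (natAt sidx k) i) 324)
    (Nat.beq (tAct (spath.getD k []) (fpt i)) (fpt (op (natAt sidx k) i)))

noncomputable def parG (k : ℕ) : ℕ := Nat.land (at16 parTab k) 7
noncomputable def parB (k : ℕ) : ℕ := Nat.shiftRight (at16 parTab k) 3

/-- derived row `k` -/
noncomputable def rowOK5 (k : ℕ) : Bool :=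
  iteB (Nat.beq k 0) true
    (force (parB k) fun b => force (natAt sidx (parG k)) fun s =>
      force (opTab.leafAt s) fun S => force (opTab.leafAt b) fun B =>
      force (opTab.leafAt k) fun K =>
        andB (Nat.blt (parG k) 5) (andB (Nat.blt b k) (andB (Nat.beq (at16 S b) k)
          (rangeAll (fun x => Nat.beq (at16 K x) (at16 S (at16 B (at16 S x)))) 324 0))))

/-- the tests of the point `p` agree with those of point 0 -/
noncomputable def probeAll (p : ℕ) : Bool :=
  allL (fun q => Bool.rec (motive := fun _ => Bool)
    (Bool.rec (motive := fun _ => Bool) true false (Nat.beq (tAct q.1 p) p))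
    (Nat.beq (tAct q.1 p) p) q.2) probes

/-- only the orbit of 0 passes the tests -/
noncomputable def probeOK (p : ℕ) : Bool :=
  iteB (probeAll p)
    (iteB (Nat.beq p 0) true (iteB (Nat.beq p (natAt zImgs 1)) true (Nat.beq p (natAt zImgs 2))))
    true

/-- verify a derivation list, extending the known points -/
noncomputable def dagOK : List (ℕ × ℕ × ℕ × ℕ × List ℕ) → List (ℕ × List ℕ) → Bool
  | [], known => genPts.all fun g => known.any fun e => Nat.beq e.1 g.1
  | (kd, i, j, p, x) :: r, known =>
    pOK x p && dagOK r (known ++ [(p, x)]) && decide (j < known.length) &&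
      (if kd = 0 then decide (i < known.length) &&
          Nat.beq (tAct (known.getD i (0, [])).2 (known.getD j (0, [])).1) p
        else decide (i < l0w.length) && Nat.beq (wk (l0w.getD i []) (known.getD j (0, [])).1) p)

/-- the word `w` maps members as the permutation `P` -/
noncomputable def liftOK (w : List ℕ) (P : ℕ) : Bool :=
  andB (lw w) (rangeAll (fun i => andB (Nat.blt (at16 P i) 324)
    (Nat.beq (wk w (fpt i)) (fpt (at16 P i)))) 324 0)

/-- a pair of inverse tables of a symmetry of the conjugation table -/
noncomputable def autOK (P Q : ℕ) : Bool :=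
  andB (rangeAll (fun x => andB (Nat.blt (at16 P x) 324) (Nat.beq (at16 Q (at16 P x)) x)) 324 0)
    (allL (fun s => force (opTab.leafAt s) fun S => force (opTab.leafAt (at16 P s)) fun S' =>
      rangeAll (fun x => Nat.beq (at16 P (at16 S x)) (at16 S' (at16 P x))) 324 0) sidx)

/-- `C * B * A = A * B` -/
noncomputable def commOK (C A B : ℕ) : Bool :=
  rangeAll (fun x => Nat.beq (at16 C (at16 B (at16 A x))) (at16 A (at16 B x))) 324 0

/-- `C * A = A * B` -/
noncomputable def conjOK (C A B : ℕ) : Bool :=
  rangeAll (fun x => Nat.beq (at16 C (at16 A x)) (at16 A (at16 B x))) 324 0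

/-- one level of the stabilizer chain -/
structure Level where
  base : List ℕ
  pt : ℕ
  orbit : List ℕ
  par : List (ℕ × ℕ)
  gens : List ℕ
  ops : List (ℕ × ℕ)
  tests : List (ℕ × ℕ × Option ℕ)

/-- extend a sequence by derivations -/
noncomputable def seqv : List (ℕ × ℕ) → List ℕ → List ℕ
  | [], s => s
  | (i, j) :: r, s => seqv r (s ++ [op (s.getD i 0) (s.getD j 0)])

/-- the tests of a sequence -/
noncomputable def testAll (ts : List (ℕ × ℕ × Option ℕ)) (s : List ℕ) : Bool :=
  ts.all fun t => match t.2.2 with
    | none => !Nat.beq (s.getD t.1 0) (s.getD t.2.1 0)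
    | some k => Nat.beq (op (s.getD t.1 0) (s.getD t.2.1 0)) (s.getD k 0)

/-- validity of a level -/
noncomputable def levelOK (L : Level) : Bool :=
  decide (∀ b ∈ L.base ++ [L.pt], b < 324) &&
  L.ops.zipIdx.all (fun e => decide (e.1.1 < L.base.length + 1 + e.2) &&
    decide (e.1.2 < L.base.length + 1 + e.2)) &&
  L.tests.all (fun t => decide (t.1 < L.base.length + 1 + L.ops.length) &&
    decide (t.2.1 < L.base.length + 1 + L.ops.length) &&
    match t.2.2 with
      | none => true
      | some k => decide (k < L.base.length + 1 + L.ops.length)) &&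
  testAll L.tests (seqv L.ops (L.base ++ [L.pt])) &&
  (List.range 324).all (fun c =>
    !testAll L.tests (seqv L.ops (L.base ++ [c])) || L.orbit.any (fun o => Nat.beq o c)) &&
  decide L.orbit.Nodup && decide (L.orbit.head? = some L.pt) && decide (L.par.length = L.orbit.length) &&
  L.gens.all (fun g => decide (g < permTab.length) &&
    L.base.all (fun b => Nat.beq (at16 (permTab.getD g (0, 0)).1 b) b)) &&
  (List.range L.orbit.length).all (fun i => decide (i = 0) ||
    (decide ((L.par.getD i (0, 0)).1 < i) && decide ((L.par.getD i (0, 0)).2 < L.gens.length) &&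
      Nat.beq (at16 (permTab.getD (L.gens.getD (L.par.getD i (0, 0)).2 0) (0, 0)).1
        (L.orbit.getD (L.par.getD i (0, 0)).1 0)) (L.orbit.getD i 0)))

end Cfsg.Agent.Lib.FiTwentyThreeMax
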