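import Cfsg.Agent.S1697
import Cfsg.Agent.Lib.FiTwentyThreeMax.Defs
import Cfsg.Agent.Lib.FiTwentyThreeMax.ChecksA
import Cfsg.Agent.Lib.FiTwentyThreeMax.ChecksAll

/-!
The action of the presented group Fi23 on 31671 points and the transposition attached to each point.
-/

namespace Cfsg.Agent.Lib.FiTwentyThreeMax

open Cfsg.Agent.Lib.CosetTable
open Cfsg

local notation "G" => Spor.Fi23
local notation "gn" => Cfsg.Agent.S1697.gn

theorem exists_act : ∃ φ : G →* Equiv.Perm (Fin Fi23m.tab.n),
    (∀ g, g < Fi23m.cert.k → φ (gn g) = Fi23m.checked.perm g) ∧ Function.Injective φ := by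
  have D := Cfsg.Agent.S1689.certified
  obtain ⟨φ, hφ⟩ : ∃ φ : G →* Equiv.Perm (Fin Fi23m.tab.n),
      ∀ g, g < Fi23m.cert.k → φ (gn g) = Fi23m.checked.perm g :=
    Pres.exists_action D.good D.extra_eq D.k_eq D.rels_eq D.words D.checked
  exact ⟨φ, hφ, (Checked.natCard_eq Fi23m.checked Cfsg.Agent.S1697.model_act φ hφ
    Cfsg.Agent.S1697.order_le Fi23Simple.levels Fi23Simple.levels_ok Fi23Simple.levels_card).2⟩

/-- the action on points -/
noncomputable def act : G →* Equiv.Perm (Fin Fi23m.tab.n) := exists_act.choose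

theorem act_gn : ∀ g, g < Fi23m.cert.k → act (gn g) = Fi23m.checked.perm g :=
  exists_act.choose_spec.1

theorem act_inj : Function.Injective act := exists_act.choose_spec.2

theorem cert_k : Fi23m.cert.k = 10 := rfl

theorem tab_n : Fi23m.tab.n = 31671 := rfl

theorem lw_spec {w : List ℕ} (h : lw w = true) : ∀ a ∈ w, a < Fi23m.cert.k := fun _ ha =>
  blt_iff.mp (allL_spec h _ ha)

/-- the action on natural numbers below the number of points -/
noncomputable def app (g : G) (p : ℕ) : ℕ :=
  if h : p < Fi23m.tab.n then ((act g ⟨p, h⟩ : Fin Fi23m.tab.n) : ℕ) else p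

theorem app_lt (g : G) {p : ℕ} (h : p < 31671) : app g p < 31671 := by
  rw [app, dif_pos (show p < Fi23m.tab.n from h)]
  exact Fin.isLt _

theorem app_one (p : ℕ) : app 1 p = p := by
  unfold app
  split
  · rw [map_one, Equiv.Perm.one_apply]
  · rfl

theorem app_mul (g h : G) (p : ℕ) : app (g * h) p = app g (app h p) := by
  by_cases hp : p < Fi23m.tab.n
  · have e : app h p = ((act h ⟨p, hp⟩ : Fin Fi23m.tab.n) : ℕ) := by rw [app, dif_pos hp]
    rw [e, app, dif_pos hp, app, dif_pos (Fin.isLt _), map_mul, Equiv.Perm.mul_apply]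
  · simp [app, hp]

theorem app_inv_app (g : G) (p : ℕ) : app g⁻¹ (app g p) = p := by
  rw [← app_mul, inv_mul_cancel, app_one]

theorem app_injective (g : G) : Function.Injective (app g) :=
  Function.LeftInverse.injective (app_inv_app g)

theorem app_eq_self_inv {g : G} {p : ℕ} (h : app g p = p) : app g⁻¹ p = p := by
  conv_lhs => rw [← h]
  rw [app_inv_app]

theorem app_word {w : List ℕ} (hw : lw w = true) {p : ℕ} (hp : p < 31671) :
    app (eval gn w) p = wk w p := by
  rw [app, dif_pos (show p < Fi23m.tab.n from hp),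
    Checked.map_eval Fi23m.checked Cfsg.Agent.S1697.model_act act act_gn (lw_spec hw),
    Fi23m.checked.eval_perm (lw_spec hw)]
  rfl

theorem eval_rev {w : List ℕ} (hw : lw w = true) : eval gn w.reverse = (eval gn w)⁻¹ :=
  eval_reverse gn w fun a ha => Cfsg.Agent.S1697.model_act.invol a (lw_spec hw a ha)

theorem lw_append {a b : List ℕ} (ha : lw a = true) (hb : lw b = true) : lw (a ++ b) = true := by
  induction a with
  | nil => exact hb
  | cons x a ih =>
    have ha' : andB (Nat.blt x 10) (lw a) = true := ha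
    show andB (Nat.blt x 10) (lw (a ++ b)) = true
    rw [andB_eq, Bool.and_eq_true] at ha' ⊢
    exact ⟨ha'.1, ih ha'.2⟩

theorem lw_reverse {a : List ℕ} (ha : lw a = true) : lw a.reverse = true := by
  induction a with
  | nil => rfl
  | cons x a ih =>
    have ha' : andB (Nat.blt x 10) (lw a) = true := ha
    rw [andB_eq, Bool.and_eq_true] at ha'
    rw [List.reverse_cons]
    refine lw_append (ih ha'.2) ?_
    show andB (Nat.blt x 10) true = true
    rw [andB_eq, Bool.and_true]; exact ha'.1

theorem eq_of_eqB {l r : List ℕ} (h : eqB l r = true) : eval gn l = eval gn r := by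
  simp only [eqB, andB_eq, Bool.and_eq_true] at h
  obtain ⟨hr, hl, hf⟩ := h
  have hb := fixOK_of_fix_base Fi23m.checked act act_gn Cfsg.Agent.S1697.model_act
    Cfsg.Agent.S1697.order_le Fi23Simple.levels Fi23Simple.levels_ok Fi23Simple.levels_card
    (r.reverse ++ l) hl hf
  have e : eval gn (r.reverse ++ l) = 1 := by
    apply act_inj
    rw [map_one, Checked.map_eval Fi23m.checked Cfsg.Agent.S1697.model_act act act_gn (lw_spec hl)]
    refine Equiv.ext fun i => Fin.ext ?_
    rw [Fi23m.checked.eval_perm (lw_spec hl), Equiv.Perm.one_apply]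
    exact beq_iff.mp (allL_spec (hb i i.2) (r.reverse ++ l) (List.mem_singleton.mpr rfl))
  rw [eval_append, eval_rev hr] at e
  exact mul_inv_eq_one.mp e

/-- the transposition of point 0 -/
noncomputable def z0 : G := eval gn z0w

theorem z0_mul_self : z0 * z0 = 1 := by
  rw [z0, ← eval_append, eq_of_eqB z0_sq]
  rfl

theorem exists_app_zero {p : ℕ} (hp : p < 31671) : ∃ x : G, app x 0 = p := by
  obtain ⟨x, hx⟩ := Checked.exists_map_zero Fi23m.checked act act_gn ⟨p, hp⟩
  refine ⟨x, ?_⟩
  rw [app, dif_pos Fi23m.checked.pos, hx]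

theorem commute_z0 {y : G} (h : app y 0 = 0) : Commute y z0 := by
  have M := Cfsg.Agent.S1697.model_act
  have K := Fi23m.checked
  have hy : y ∈ wordSubgroup gn Fi23m.cert.subs := by
    have e : act y ⟨0, K.pos⟩ = ⟨0, K.pos⟩ := Fin.ext (by rw [app, dif_pos K.pos] at h; exact h)
    have h' := Checked.coset_map K M act act_gn y ⟨0, K.pos⟩
    rw [e, Checked.coset_zero, MulAction.Quotient.smul_mk, smul_eq_mul, mul_one,
      QuotientGroup.eq] at h'
    simpa using h'
  clear h
  induction hy using Subgroup.closure_induction with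
  | mem g hg =>
    obtain ⟨w, hw, rfl⟩ := hg
    have e := eq_of_eqB (allL_spec z0_subs w hw)
    rw [eval_append, eval_append] at e
    exact e
  | one => exact Commute.one_left _
  | mul a b _ _ ha hb => exact ha.mul_left hb
  | inv a _ ha => exact ha.inv_left

/-- the transposition attached to a point -/
noncomputable def tr (p : ℕ) : G :=
  if hp : p < 31671 then (exists_app_zero hp).choose * z0 * (exists_app_zero hp).choose⁻¹ else 1

theorem tr_eq {p : ℕ} (hp : p < 31671) {x : G} (hx : app x 0 = p) : tr p = x * z0 * x⁻¹ := by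
  rw [tr, dif_pos hp]
  have hy := (exists_app_zero hp).choose_spec
  generalize (exists_app_zero hp).choose = y at hy ⊢
  have hc : Commute (x⁻¹ * y) z0 := commute_z0 (by rw [app_mul, hy, ← hx, app_inv_app])
  calc y * z0 * y⁻¹ = x * ((x⁻¹ * y) * z0) * y⁻¹ := by group
    _ = x * (z0 * (x⁻¹ * y)) * y⁻¹ := by rw [hc.eq]
    _ = x * z0 * x⁻¹ := by group

theorem tr_conj {p : ℕ} (hp : p < 31671) (g : G) : tr (app g p) = g * tr p * g⁻¹ := by
  obtain ⟨x, hx⟩ := exists_app_zero hp
  rw [tr_eq hp hx, tr_eq (app_lt g hp) (x := g * x) (by rw [app_mul, hx])]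
  group

theorem tr_mul_self {p : ℕ} (hp : p < 31671) : tr p * tr p = 1 := by
  obtain ⟨x, hx⟩ := exists_app_zero hp
  rw [tr_eq hp hx, show x * z0 * x⁻¹ * (x * z0 * x⁻¹) = x * (z0 * z0) * x⁻¹ by group, z0_mul_self]
  group

theorem tr_inv {p : ℕ} (hp : p < 31671) : (tr p)⁻¹ = tr p :=
  inv_eq_of_mul_eq_one_right (tr_mul_self hp)

theorem tr_app_tr {p q : ℕ} (hp : p < 31671) (hq : q < 31671) :
    tr (app (tr p) q) = tr p * tr q * tr p := by
  rw [tr_conj hq, tr_inv hp]

theorem pOK_spec {x : List ℕ} {q : ℕ} (h : pOK x q = true) :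
    lw x = true ∧ app (eval gn x) 0 = q ∧ q < 31671 := by
  simp only [pOK, andB_eq, Bool.and_eq_true, beq_iff] at h
  have e := app_word h.1 (p := 0) (by norm_num)
  rw [h.2] at e
  exact ⟨h.1, e, e ▸ app_lt _ (by norm_num)⟩

theorem z0w_lw : lw z0w = true := by decide +kernel

theorem tr_word {x : List ℕ} {q : ℕ} (h : pOK x q = true) : eval gn (tword x) = tr q := by
  obtain ⟨hl, he, hq⟩ := pOK_spec h
  rw [tr_eq hq he, tword, eval_append, eval_append, eval_rev hl, ← mul_assoc]
  rfl

theorem app_z0 {p : ℕ} (hp : p < 31671) : app z0 p = at16 zTab p := by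
  rw [z0, app_word z0w_lw hp]
  have h := z_ok p hp
  simp only [zOK, beq_iff] at h
  exact h.symm

theorem app_tr {x : List ℕ} {q p : ℕ} (h : pOK x q = true) (hp : p < 31671) :
    app (tr q) p = tAct x p := by
  obtain ⟨hl, he, hq⟩ := pOK_spec h
  rw [tr_eq hq he, ← eval_rev hl, app_mul, app_mul, app_word (lw_reverse hl) hp]
  have h1 : wk x.reverse p < 31671 := app_word (lw_reverse hl) hp ▸ app_lt _ hp
  rw [app_z0 h1, app_word hl (app_z0 h1 ▸ app_lt _ h1)]
  simp only [tAct, force_eq]

end Cfsg.Agent.Lib.FiTwentyThreeMax
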