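import Cfsg.Agent.Lib.FiTwentyThreeMax.Defs

/-! Checks by evaluation. -/

set_option Elab.async false
set_option maxRecDepth 10000

namespace Cfsg.Agent.Lib.FiTwentyThreeMax

open Cfsg.Agent.Lib.CosetTable

theorem zu_comm : (eqB (zw ++ uw) (uw ++ zw) && eqB (zw ++ vw) (vw ++ zw)) = true := by decide +kernel

theorem uv_ne : Nat.beq (wk (uw ++ vw) 0) (wk (vw ++ uw) 0) = false := by decide +kernel

theorem genPts_ok : rangeAll (fun a => andB (pOK (genPts.getD a (0, [])).2 (genPts.getD a (0, [])).1)
    (eqB [a] (tword (genPts.getD a (0, [])).2))) 10 0 = true := by decide +kernel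

theorem seeds_ok : (baseDag :: repDags).all (fun d => d.1.all fun e => pOK e.2 e.1) = true := by decide +kernel

theorem repSeeds_ok : (List.range 5).all (fun r => decide (r < repDags.length) &&
    (repDags.getD r ([], [])).1.all fun e =>
      Nat.beq e.1 (natAt reps r) || (List.range 324).any fun i => Nat.beq (fpt i) e.1) = true := by decide +kernel

theorem baseSeeds_ok : (baseDag.1.all fun e =>
    Nat.beq e.1 0 || (List.range 324).any fun i => Nat.beq (fpt i) e.1) &&
    baseDag.2.all (fun e => Nat.beq e.1 0) = true := by decide +kernel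

theorem repDag_ok_0 : dagOK (repDags.getD 0 ([], [])).2 (repDags.getD 0 ([], [])).1 = true := by decide +kernel

theorem repDag_ok_1 : dagOK (repDags.getD 1 ([], [])).2 (repDags.getD 1 ([], [])).1 = true := by decide +kernel

theorem repDag_ok_2 : dagOK (repDags.getD 2 ([], [])).2 (repDags.getD 2 ([], [])).1 = true := by decide +kernel

theorem repDag_ok_3 : dagOK (repDags.getD 3 ([], [])).2 (repDags.getD 3 ([], [])).1 = true := by decide +kernel

theorem repDag_ok_4 : dagOK (repDags.getD 4 ([], [])).2 (repDags.getD 4 ([], [])).1 = true := by decide +kernel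

theorem baseDag_ok : dagOK baseDag.2 baseDag.1 = true := by decide +kernel

theorem full_ok : (fullOps.zipIdx.all (fun e => decide (e.1.1 < fullBase.length + e.2) &&
    decide (e.1.2 < fullBase.length + e.2)) && decide (∀ b ∈ fullBase, b < 324) &&
    (let s := seqv fullOps fullBase; (List.range 324).all fun i => s.any fun o => Nat.beq o i)) = true := by
  decide +kernel

theorem der_ok_1_0 : commOK (permTab.getD 16 (0, 0)).1 (permTab.getD 13 (0, 0)).1 (permTab.getD 15 (0, 0)).1 = true := by decide +kernel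

theorem der_ok_1_1 : commOK (permTab.getD 17 (0, 0)).1 (permTab.getD 14 (0, 0)).1 (permTab.getD 15 (0, 0)).1 = true := by decide +kernel

theorem der_ok_2_0 : commOK (permTab.getD 18 (0, 0)).1 (permTab.getD 16 (0, 0)).1 (permTab.getD 17 (0, 0)).1 = true := by decide +kernel

theorem der_ok_2_1 : conjOK (permTab.getD 19 (0, 0)).1 (permTab.getD 0 (0, 0)).1 (permTab.getD 18 (0, 0)).1 = true := by decide +kernel

theorem der_ok_2_2 : conjOK (permTab.getD 20 (0, 0)).1 (permTab.getD 12 (0, 0)).1 (permTab.getD 18 (0, 0)).1 = true := by decide +kernel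

theorem der_ok_3_0 : commOK (permTab.getD 21 (0, 0)).1 (permTab.getD 18 (0, 0)).1 (permTab.getD 19 (0, 0)).1 = true := by decide +kernel

theorem der_ok_3_1 : commOK (permTab.getD 22 (0, 0)).1 (permTab.getD 18 (0, 0)).1 (permTab.getD 20 (0, 0)).1 = true := by decide +kernel

theorem der_ok_3_2 : commOK (permTab.getD 23 (0, 0)).1 (permTab.getD 19 (0, 0)).1 (permTab.getD 20 (0, 0)).1 = true := by decide +kernel

theorem der_ok_4_0 : commOK (permTab.getD 24 (0, 0)).1 (permTab.getD 22 (0, 0)).1 (permTab.getD 23 (0, 0)).1 = true := by decide +kernel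

theorem der_ok_4_1 : commOK (permTab.getD 25 (0, 0)).1 (permTab.getD 21 (0, 0)).1 (permTab.getD 23 (0, 0)).1 = true := by decide +kernel

theorem der_ok_5_0 : commOK (permTab.getD 26 (0, 0)).1 (permTab.getD 24 (0, 0)).1 (permTab.getD 25 (0, 0)).1 = true := by decide +kernel

theorem der_ok_5_1 : conjOK (permTab.getD 27 (0, 0)).1 (permTab.getD 0 (0, 0)).1 (permTab.getD 26 (0, 0)).1 = true := by decide +kernel

theorem der_ok_5_2 : conjOK (permTab.getD 28 (0, 0)).1 (permTab.getD 1 (0, 0)).1 (permTab.getD 26 (0, 0)).1 = true := by decide +kernel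

theorem der_ok_5_3 : conjOK (permTab.getD 29 (0, 0)).1 (permTab.getD 12 (0, 0)).1 (permTab.getD 26 (0, 0)).1 = true := by decide +kernel

theorem der_ok_6_1 : commOK (permTab.getD 30 (0, 0)).1 (permTab.getD 26 (0, 0)).1 (permTab.getD 29 (0, 0)).1 = true := by decide +kernel

theorem der_ok_6_2 : commOK (permTab.getD 31 (0, 0)).1 (permTab.getD 26 (0, 0)).1 (permTab.getD 27 (0, 0)).1 = true := by decide +kernel

theorem der_ok_6_4 : commOK (permTab.getD 32 (0, 0)).1 (permTab.getD 28 (0, 0)).1 (permTab.getD 29 (0, 0)).1 = true := by decide +kernel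

theorem der_ok_7_4 : commOK (permTab.getD 33 (0, 0)).1 (permTab.getD 30 (0, 0)).1 (permTab.getD 31 (0, 0)).1 = true := by decide +kernel

theorem der_ok_7_5 : commOK (permTab.getD 34 (0, 0)).1 (permTab.getD 30 (0, 0)).1 (permTab.getD 32 (0, 0)).1 = true := by decide +kernel

theorem der_ok_7_7 : commOK (permTab.getD 35 (0, 0)).1 (permTab.getD 31 (0, 0)).1 (permTab.getD 32 (0, 0)).1 = true := by decide +kernel

theorem der_ok_8_4 : commOK (permTab.getD 36 (0, 0)).1 (permTab.getD 34 (0, 0)).1 (permTab.getD 35 (0, 0)).1 = true := by decide +kernel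

theorem der_ok_8_7 : commOK (permTab.getD 37 (0, 0)).1 (permTab.getD 33 (0, 0)).1 (permTab.getD 35 (0, 0)).1 = true := by decide +kernel

end Cfsg.Agent.Lib.FiTwentyThreeMax
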