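import Cfsg.Agent.Lib.FiTwentyThreeMax.Members
import Cfsg.Agent.Lib.FiTwentyThreeMax.Levels
import Cfsg.Agent.Lib.FiTwentyThreeMax.ChecksMisc

/-!
The order of the group of symmetries of the conjugation table on the 324 members.
-/

namespace Cfsg.Agent.Lib.FiTwentyThreeMax

open Cfsg.Agent.Lib.CosetTable

/-- first table of a listed permutation -/
noncomputable def pTab (i : ℕ) : ℕ := (permTab.getD i (0, 0)).1

theorem autOK_of_mem {i : ℕ} (hi : i < permTab.length) :
    autOK (pTab i) (permTab.getD i (0, 0)).2 = true :=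
  List.all_eq_true.mp perms_ok (permTab.getD i (0, 0)) (by
    rw [List.getD_eq_getElem _ _ hi]; exact List.getElem_mem hi)

theorem pTab_spec {i : ℕ} (hi : i < permTab.length) (x : Fin 324) :
    at16 (pTab i) x < 324 ∧ at16 (permTab.getD i (0, 0)).2 (at16 (pTab i) x) = x := by
  have h := autOK_of_mem hi
  simp only [autOK, andB_eq, Bool.and_eq_true] at h
  have h' := rangeAll_spec h.1 x (Nat.zero_le _) (by omega)
  simp only [Bool.and_eq_true, blt_iff, beq_iff, andB_eq] at h'
  exact h'

open Classical in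
/-- a listed permutation -/
noncomputable def pPerm (i : ℕ) : Equiv.Perm (Fin 324) :=
  if hi : i < permTab.length then
    Equiv.ofBijective (fun x => ⟨at16 (pTab i) x, (pTab_spec hi x).1⟩)
      (Finite.injective_iff_bijective.mp fun x y h => by
        have e : at16 (pTab i) x = at16 (pTab i) y := congrArg Fin.val h
        exact Fin.ext (by rw [← (pTab_spec hi x).2, e, (pTab_spec hi y).2]))
  else 1

theorem pPerm_apply {i : ℕ} (hi : i < permTab.length) (x : Fin 324) :
    ((pPerm i x : Fin 324) : ℕ) = at16 (pTab i) x := by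
  rw [pPerm, dif_pos hi]; rfl

theorem pPerm_mem {i : ℕ} (hi : i < permTab.length) : pPerm i ∈ symGrp := by
  have h := autOK_of_mem hi
  simp only [autOK, andB_eq, Bool.and_eq_true, force_eq] at h
  have hgen : ∀ g, ∀ hg : g < 5, ∀ x : Fin 324,
      pPerm i (fop ⟨natAt sidx g, sidx_lt' hg⟩ x) =
        fop (pPerm i ⟨natAt sidx g, sidx_lt' hg⟩) (pPerm i x) := by
    intro g hg x
    have hm : natAt sidx g ∈ sidx := by
      have : rangeAll (fun g => sidx.any fun s => Nat.beq s (natAt sidx g)) 5 0 = true := by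
        decide +kernel
      have h' := rangeAll_spec this g (Nat.zero_le _) (by omega)
      simp only [List.any_eq_true, beq_iff] at h'
      obtain ⟨s, hs, e⟩ := h'
      exact e ▸ hs
    have h' := beq_iff.mp (rangeAll_spec (allL_spec h.2 _ hm) x (Nat.zero_le _) (by omega))
    refine Fin.ext ?_
    simp only [fop, pPerm_apply hi]
    exact h'
  have key : ∀ k, ∀ hk : k < 324, ∀ x : Fin 324,
      pPerm i (fop ⟨k, hk⟩ x) = fop (pPerm i ⟨k, hk⟩) (pPerm i x) := by
    intro k
    induction k using Nat.strongRecOn with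
    | _ k IH =>
      intro hk x
      by_cases h0 : k = 0
      · have e : (⟨k, hk⟩ : Fin 324) = ⟨natAt sidx 0, sidx_lt' (by norm_num)⟩ :=
          Fin.ext (h0.trans sidx_zero.2.symm)
        rw [e]
        exact hgen 0 (by norm_num) x
      · obtain ⟨hg, hb, he, -⟩ := row_spec hk h0
        have e : (⟨k, hk⟩ : Fin 324) =
            fop ⟨natAt sidx (parG k), sidx_lt' hg⟩ ⟨parB k, by omega⟩ := Fin.ext he.symm
        rw [e, fop_fop, hgen _ hg, IH _ hb (by omega), hgen _ hg, hgen _ hg, fop_fop]
  exact fun a b => key a a.2 b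

/-- the symmetries fixing the listed members -/
noncomputable def fixSym (B : List ℕ) : Subgroup (Equiv.Perm (Fin 324)) where
  carrier := {σ | σ ∈ symGrp ∧ ∀ x : Fin 324, (x : ℕ) ∈ B → σ x = x}
  one_mem' := ⟨symGrp.one_mem, fun _ _ => rfl⟩
  mul_mem' := by
    intro σ τ hσ hτ
    refine ⟨symGrp.mul_mem hσ.1 hτ.1, fun x hx => ?_⟩
    rw [Equiv.Perm.mul_apply, hτ.2 x hx, hσ.2 x hx]
  inv_mem' := by
    intro σ hσ
    refine ⟨symGrp.inv_mem hσ.1, fun x hx => ?_⟩
    rw [Equiv.Perm.inv_def, Equiv.symm_apply_eq]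
    exact (hσ.2 x hx).symm

theorem mem_fixSym {B : List ℕ} {σ : Equiv.Perm (Fin 324)} :
    σ ∈ fixSym B ↔ σ ∈ symGrp ∧ ∀ x : Fin 324, (x : ℕ) ∈ B → σ x = x := Iff.rfl

/-- the permutation as a map on numbers -/
noncomputable def natMap (σ : Equiv.Perm (Fin 324)) (a : ℕ) : ℕ :=
  if h : a < 324 then ((σ ⟨a, h⟩ : Fin 324) : ℕ) else a

theorem natMap_lt (σ : Equiv.Perm (Fin 324)) {a : ℕ} (h : a < 324) : natMap σ a < 324 := by
  rw [natMap, dif_pos h]; exact Fin.isLt _

theorem natMap_inj (σ : Equiv.Perm (Fin 324)) {a b : ℕ} (ha : a < 324) (hb : b < 324)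
    (h : natMap σ a = natMap σ b) : a = b := by
  rw [natMap, dif_pos ha, natMap, dif_pos hb] at h
  exact congrArg Fin.val (σ.injective (Fin.ext h))

theorem natMap_op {σ : Equiv.Perm (Fin 324)} (hσ : σ ∈ symGrp) {a b : ℕ} (ha : a < 324)
    (hb : b < 324) : natMap σ (op a b) = op (natMap σ a) (natMap σ b) := by
  have hab := (member_row a ha b hb).1
  simp only [natMap, dif_pos ha, dif_pos hb, dif_pos hab]
  exact congrArg Fin.val (hσ ⟨a, ha⟩ ⟨b, hb⟩)

theorem getD_lt {s : List ℕ} (hs : ∀ a ∈ s, a < 324) {i : ℕ} (hi : i < s.length) :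
    s.getD i 0 < 324 := by
  rw [List.getD_eq_getElem _ _ hi]; exact hs _ (List.getElem_mem hi)

theorem getD_map {s : List ℕ} (f : ℕ → ℕ) {i : ℕ} (hi : i < s.length) :
    (s.map f).getD i 0 = f (s.getD i 0) := by
  rw [List.getD_eq_getElem _ _ hi, List.getD_eq_getElem _ _ (by simpa using hi), List.getElem_map]

theorem seqv_spec {σ : Equiv.Perm (Fin 324)} (hσ : σ ∈ symGrp) :
    ∀ (ops : List (ℕ × ℕ)) (s : List ℕ),
      (∀ e ∈ ops.zipIdx, e.1.1 < s.length + e.2 ∧ e.1.2 < s.length + e.2) →
      (∀ a ∈ s, a < 324) →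
      seqv ops (s.map (natMap σ)) = (seqv ops s).map (natMap σ) ∧
        (∀ a ∈ seqv ops s, a < 324) ∧ (seqv ops s).length = s.length + ops.length
  | [], s, _, hs => by simp [seqv]; exact hs
  | (i, j) :: r, s, h, hs => by
    have h0 := h ((i, j), 0) (by simp [List.zipIdx_cons])
    simp only [Nat.add_zero] at h0
    have hi := getD_lt hs h0.1
    have hj := getD_lt hs h0.2
    have hs' : ∀ a ∈ s ++ [op (s.getD i 0) (s.getD j 0)], a < 324 := by
      intro a ha
      rcases List.mem_append.mp ha with ha | ha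
      · exact hs a ha
      · rw [List.mem_singleton.mp ha]; exact (member_row _ hi _ hj).1
    have h' : ∀ e ∈ r.zipIdx, e.1.1 < (s ++ [op (s.getD i 0) (s.getD j 0)]).length + e.2 ∧
        e.1.2 < (s ++ [op (s.getD i 0) (s.getD j 0)]).length + e.2 := by
      intro e he
      have := h (e.1, e.2 + 1) (by
        rw [List.zipIdx_cons, List.mem_cons, List.zipIdx_succ]
        exact Or.inr (List.mem_map.mpr ⟨e, he, rfl⟩))
      simp only [List.length_append, List.length_singleton]
      exact ⟨by have := this.1; simp only at this; omega, by have := this.2; simp only at this; omega⟩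
    obtain ⟨e1, e2, e3⟩ := seqv_spec hσ r _ h' hs'
    refine ⟨?_, e2, ?_⟩
    · show seqv r (s.map (natMap σ) ++
        [op ((s.map (natMap σ)).getD i 0) ((s.map (natMap σ)).getD j 0)]) = _
      rw [getD_map _ h0.1, getD_map _ h0.2, ← natMap_op hσ hi hj]
      simpa [List.map_append, seqv] using e1
    · show (seqv r _).length = _
      rw [e3]; simp; omega

theorem testAll_map {σ : Equiv.Perm (Fin 324)} (hσ : σ ∈ symGrp) {ts : List (ℕ × ℕ × Option ℕ)}
    {s : List ℕ} (hs : ∀ a ∈ s, a < 324)
    (hb : ∀ t ∈ ts, t.1 < s.length ∧ t.2.1 < s.length ∧ ∀ k, t.2.2 = some k → k < s.length)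
    (h : testAll ts s = true) : testAll ts (s.map (natMap σ)) = true := by
  simp only [testAll, List.all_eq_true] at h ⊢
  intro t ht
  obtain ⟨h1, h2, h3⟩ := hb t ht
  have h' := h t ht
  rw [getD_map _ h1, getD_map _ h2]
  rcases hk : t.2.2 with _ | k
  · rw [hk] at h'
    simp only [Bool.not_eq_true', Bool.eq_false_iff] at h' ⊢
    exact fun e => h' (beq_iff.mpr (natMap_inj σ (getD_lt hs h1) (getD_lt hs h2) (beq_iff.mp e)))
  · rw [hk] at h'
    simp only [beq_iff] at h' ⊢
    rw [getD_map _ (h3 k hk), ← natMap_op hσ (getD_lt hs h1) (getD_lt hs h2), h']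

theorem level_card (L : Level) (h : levelOK L = true) :
    Nat.card (fixSym L.base) = L.orbit.length * Nat.card (fixSym (L.base ++ [L.pt])) := by
  simp only [levelOK, Bool.and_eq_true, decide_eq_true_eq, List.all_eq_true, Bool.or_eq_true,
    beq_iff, List.mem_range] at h
  obtain ⟨⟨⟨⟨⟨⟨⟨⟨⟨hb, hops⟩, htb⟩, hpt⟩, hcls⟩, hnd⟩, hhead⟩, hplen⟩, hgens⟩, htree⟩ := h
  have hp : L.pt < 324 := hb _ (List.mem_append_right _ (List.mem_singleton.mpr rfl))
  let β : Fin 324 := ⟨L.pt, hp⟩
  let K := fixSym L.base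
  have hstab : Nat.card (MulAction.stabilizer K β) = Nat.card (fixSym (L.base ++ [L.pt])) :=
    Nat.card_congr
      { toFun := fun x => ⟨x.1.1, x.1.2.1, fun y hy => by
          rcases List.mem_append.mp hy with hy | hy
          · exact x.1.2.2 y hy
          · have e : y = β := Fin.ext (List.mem_singleton.mp hy)
            rw [e]; exact x.2⟩
        invFun := fun x => ⟨⟨x.1, x.2.1, fun y hy => x.2.2 y (List.mem_append_left _ hy)⟩,
          x.2.2 β (List.mem_append_right _ (List.mem_singleton.mpr rfl))⟩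
        left_inv := fun _ => rfl
        right_inv := fun _ => rfl }
  have hlt : ∀ c ∈ L.orbit, c < 324 ∧ ∃ σ : K, ((σ • β : Fin 324) : ℕ) = c := by
    have key : ∀ i, ∀ hi : i < L.orbit.length, ∃ σ : K, ((σ • β : Fin 324) : ℕ) = L.orbit[i] := by
      intro i
      induction i using Nat.strongRecOn with
      | _ i IH =>
        intro hi
        by_cases h0 : i = 0
        · subst h0
          refine ⟨1, ?_⟩
          rw [one_smul]
          have e := hhead
          rw [List.head?_eq_getElem?, List.getElem?_eq_getElem hi] at e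
          exact (Option.some.inj e).symm
        · rcases htree i hi with e | ⟨⟨e1, e2⟩, e3⟩
          · exact absurd e h0
          obtain ⟨τ, hτ⟩ := IH _ e1 (by omega)
          have hg := hgens (L.gens.getD (L.par.getD i (0, 0)).2 0) (by
            rw [List.getD_eq_getElem _ _ e2]; exact List.getElem_mem e2)
          let π : K := ⟨pPerm (L.gens.getD (L.par.getD i (0, 0)).2 0), pPerm_mem hg.1, fun y hy => by
            refine Fin.ext ?_
            rw [pPerm_apply hg.1]
            exact hg.2 y hy⟩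
          refine ⟨π * τ, ?_⟩
          rw [mul_smul]
          show ((pPerm _ (τ • β) : Fin 324) : ℕ) = _
          rw [pPerm_apply hg.1, hτ, ← List.getD_eq_getElem _ 0 hi, ← e3,
            List.getD_eq_getElem _ _ (show (L.par.getD i (0, 0)).1 < L.orbit.length by omega)]
          rfl
    intro c hc
    obtain ⟨i, hi, rfl⟩ := List.getElem_of_mem hc
    obtain ⟨σ, hσ⟩ := key i hi
    exact ⟨hσ ▸ Fin.isLt _, σ, hσ⟩
  have horb : MulAction.orbit K β = {c : Fin 324 | (c : ℕ) ∈ L.orbit} := by
    ext c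
    constructor
    · rintro ⟨σ, rfl⟩
      have hσ := σ.2.1
      have hmap : (L.base ++ [L.pt]).map (natMap σ.1) = L.base ++ [((σ • β : Fin 324) : ℕ)] := by
        rw [List.map_append]
        congr 1
        · refine (List.map_congr_left fun a ha => ?_).trans (List.map_id _)
          have hlt' := hb a (List.mem_append_left _ ha)
          rw [natMap, dif_pos hlt', σ.2.2 ⟨a, hlt'⟩ ha]
          rfl
        · rw [List.map_singleton, natMap, dif_pos hp]
          rfl
      have hops' : ∀ e ∈ L.ops.zipIdx, e.1.1 < (L.base ++ [L.pt]).length + e.2 ∧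
          e.1.2 < (L.base ++ [L.pt]).length + e.2 := fun e he => by
        simpa using hops e he
      obtain ⟨e1, e2, e3⟩ := seqv_spec hσ L.ops (L.base ++ [L.pt]) hops' hb
      have hT : testAll L.tests (seqv L.ops (L.base ++ [((σ • β : Fin 324) : ℕ)])) = true := by
        rw [← hmap, e1]
        refine testAll_map hσ e2 (fun t ht => ?_) hpt
        rw [e3, List.length_append, List.length_singleton]
        obtain ⟨⟨t1, t2⟩, t3⟩ := htb t ht
        refine ⟨t1, t2, fun k hk => ?_⟩
        rw [hk] at t3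
        simpa using t3
      rcases hcls _ (σ • β : Fin 324).2 with hc | hc
      · simp [hT] at hc
      · obtain ⟨o, ho, e⟩ := List.any_eq_true.mp hc
        show ((σ • β : Fin 324) : ℕ) ∈ L.orbit
        rw [← beq_iff.mp e]; exact ho
    · intro hc
      obtain ⟨-, σ, hσ⟩ := hlt _ hc
      exact ⟨σ, Fin.ext hσ⟩
  have hcard : Nat.card (MulAction.orbit K β) = L.orbit.length := by
    rw [horb, Nat.card_coe_set_eq,
      ← Set.ncard_image_of_injective _ (Fin.val_injective (n := 324))]
    have : Fin.val '' {c : Fin 324 | (c : ℕ) ∈ L.orbit} = (L.orbit.toFinset : Set ℕ) := by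
      ext a
      simp only [Set.mem_image, Set.mem_ofPred_eq, List.coe_toFinset]
      exact ⟨fun ⟨c, hc, e⟩ => e ▸ hc, fun ha => ⟨⟨a, (hlt a ha).1⟩, ha, rfl⟩⟩
    rw [this, Set.ncard_coe_finset, List.toFinset_card_of_nodup hnd]
  rw [← hstab, ← hcard, ← Nat.card_prod]
  exact (Nat.card_congr (MulAction.orbitProdStabilizerEquivGroup K β)).symm

theorem fixSym_fullBase : fixSym fullBase = ⊥ := by
  have h := full_ok
  simp only [Bool.and_eq_true, List.all_eq_true, decide_eq_true_eq, List.mem_range] at h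
  obtain ⟨⟨hops, hb⟩, hall⟩ := h
  rw [Subgroup.eq_bot_iff_forall]
  rintro σ ⟨hσ, hfix⟩
  obtain ⟨e1, e2, -⟩ := seqv_spec hσ fullOps fullBase hops hb
  have hmap : fullBase.map (natMap σ) = fullBase := by
    refine (List.map_congr_left fun a ha => ?_).trans (List.map_id _)
    rw [natMap, dif_pos (hb a ha), hfix ⟨a, hb a ha⟩ ha]
    rfl
  rw [hmap] at e1
  refine Equiv.ext fun x => Fin.ext ?_
  obtain ⟨o, ho, e⟩ := List.any_eq_true.mp (hall x x.2)
  obtain ⟨i, hi, rfl⟩ := List.getElem_of_mem ho
  have e' : ((seqv fullOps fullBase).map (natMap σ))[i]'(by simpa using hi) =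
      (seqv fullOps fullBase)[i] := List.getElem_of_eq e1.symm _
  rw [List.getElem_map, beq_iff.mp e, natMap, dif_pos x.2] at e'
  rw [Equiv.Perm.one_apply]
  exact e'

theorem card_symGrp : Nat.card symGrp = 2 ^ 11 * 3 ^ 12 := by
  have e0 : fixSym lvA.base = symGrp := by
    ext σ
    exact ⟨fun h => h.1, fun h => ⟨h, fun x hx => absurd (show (x : ℕ) ∈ ([] : List ℕ) from hx)
      List.not_mem_nil⟩⟩
  have a := level_card lvA levelA_ok
  have b := level_card lvB levelB_ok
  have c := level_card lvC levelC_ok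
  have d := level_card lvD levelD_ok
  have e := level_card lvE levelE_ok
  have f := level_card lvF levelF_ok
  rw [e0] at a
  rw [a, show lvA.base ++ [lvA.pt] = lvB.base from rfl, b,
    show lvB.base ++ [lvB.pt] = lvC.base from rfl, c,
    show lvC.base ++ [lvC.pt] = lvD.base from rfl, d,
    show lvD.base ++ [lvD.pt] = lvE.base from rfl, e,
    show lvE.base ++ [lvE.pt] = lvF.base from rfl, f,
    show lvF.base ++ [lvF.pt] = fullBase from rfl, fixSym_fullBase, Subgroup.card_bot]
  decide +kernel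

end Cfsg.Agent.Lib.FiTwentyThreeMax
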