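import Cfsg.Agent.Lib.FiTwentyThreeMax.Defs

/-! Checks by evaluation. -/

set_option Elab.async false
set_option maxRecDepth 10000

namespace Cfsg.Agent.Lib.FiTwentyThreeMax

open Cfsg.Agent.Lib.CosetTable

theorem lift_ok_0 : liftOK (l0w.getD 0 []) (permTab.getD 0 (0, 0)).1 = true := by decide +kernel

theorem lift_ok_1 : liftOK (l0w.getD 1 []) (permTab.getD 1 (0, 0)).1 = true := by decide +kernel

theorem lift_ok_2 : liftOK (l0w.getD 2 []) (permTab.getD 12 (0, 0)).1 = true := by decide +kernel

theorem lift_ok_3 : liftOK (l0w.getD 3 []) (permTab.getD 13 (0, 0)).1 = true := by decide +kernel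

theorem lift_ok_4 : liftOK (l0w.getD 4 []) (permTab.getD 14 (0, 0)).1 = true := by decide +kernel

theorem lift_ok_5 : liftOK (l0w.getD 5 []) (permTab.getD 15 (0, 0)).1 = true := by decide +kernel

theorem uw_ok : liftOK uw (permTab.getD 36 (0, 0)).1 = true := by decide +kernel

theorem vw_ok : liftOK vw (permTab.getD 37 (0, 0)).1 = true := by decide +kernel

end Cfsg.Agent.Lib.FiTwentyThreeMax
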