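import Cfsg.Agent.Lib.FiTwentyThreeMax.Defs

/-! Checks by evaluation. -/

set_option Elab.async false
set_option maxRecDepth 10000

namespace Cfsg.Agent.Lib.FiTwentyThreeMax

open Cfsg.Agent.Lib.CosetTable

theorem genRow_ok_0 : rangeAll (genRowOK 0) 324 0 = true := by decide +kernel

theorem genRow_ok_1 : rangeAll (genRowOK 1) 324 0 = true := by decide +kernel

theorem genRow_ok_2 : rangeAll (genRowOK 2) 324 0 = true := by decide +kernel

theorem genRow_ok_3 : rangeAll (genRowOK 3) 324 0 = true := by decide +kernel

theorem genRow_ok_4 : rangeAll (genRowOK 4) 324 0 = true := by decide +kernel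

theorem row_ok_0 : rangeAll rowOK5 54 0 = true := by decide +kernel

theorem row_ok_54 : rangeAll rowOK5 54 54 = true := by decide +kernel

theorem row_ok_108 : rangeAll rowOK5 54 108 = true := by decide +kernel

theorem row_ok_162 : rangeAll rowOK5 54 162 = true := by decide +kernel

theorem row_ok_216 : rangeAll rowOK5 54 216 = true := by decide +kernel

theorem row_ok_270 : rangeAll rowOK5 54 270 = true := by decide +kernel

end Cfsg.Agent.Lib.FiTwentyThreeMax
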