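import Cfsg.Agent.Lib.FiTwentyThreeMax.Act
import Cfsg.Agent.Lib.FiTwentyThreeMax.ChecksRows

/-!
The 324 members, their conjugation table, and the setwise stabilizer acting on them.
-/

namespace Cfsg.Agent.Lib.FiTwentyThreeMax

open Cfsg.Agent.Lib.CosetTable
open Cfsg

local notation "G" => Spor.Fi23
local notation "gn" => Cfsg.Agent.S1697.gn

theorem fpt_spec {i : ℕ} (hi : i < 324) :
    fpt i < 31671 ∧ cKind (codeAt (fpt i)) = 6 ∧ cVal (codeAt (fpt i)) = i := by
  have h := rangeAll_spec fpt_ok i (Nat.zero_le _) (by omega)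
  simp only [fptOK, force_eq, andB_eq, Bool.and_eq_true, beq_iff, blt_iff] at h
  exact h

theorem fpt_lt {i : ℕ} (hi : i < 324) : fpt i < 31671 := (fpt_spec hi).1

theorem fpt_inj {i j : ℕ} (hi : i < 324) (hj : j < 324) (h : fpt i = fpt j) : i = j := by
  rw [← (fpt_spec hi).2.2, ← (fpt_spec hj).2.2, h]

theorem sidx_lt' {g : ℕ} (hg : g < 5) : natAt sidx g < 324 := by
  have h : rangeAll (fun g => Nat.blt (natAt sidx g) 324) 5 0 = true := by decide +kernel
  exact blt_iff.mp (rangeAll_spec h g (Nat.zero_le _) (by omega))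

theorem spath_pOK {g : ℕ} (hg : g < 5) : pOK (spath.getD g []) (fpt (natAt sidx g)) = true :=
  rangeAll_spec spath_ok g (Nat.zero_le _) (by omega)

theorem gen_row {g : ℕ} (hg : g < 5) {i : ℕ} (hi : i < 324) :
    op (natAt sidx g) i < 324 ∧
      app (tr (fpt (natAt sidx g))) (fpt i) = fpt (op (natAt sidx g) i) := by
  have h : genRowOK g i = true := by
    interval_cases g
    · exact rangeAll_spec genRow_ok_0 i (Nat.zero_le _) (by omega)
    · exact rangeAll_spec genRow_ok_1 i (Nat.zero_le _) (by omega)
    · exact rangeAll_spec genRow_ok_2 i (Nat.zero_le _) (by omega)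
    · exact rangeAll_spec genRow_ok_3 i (Nat.zero_le _) (by omega)
    · exact rangeAll_spec genRow_ok_4 i (Nat.zero_le _) (by omega)
  simp only [genRowOK, andB_eq, Bool.and_eq_true, beq_iff, blt_iff] at h
  exact ⟨h.1, by rw [app_tr (spath_pOK hg) (fpt_lt hi), h.2]⟩

theorem row_spec {k : ℕ} (hk : k < 324) (h0 : k ≠ 0) :
    parG k < 5 ∧ parB k < k ∧ op (natAt sidx (parG k)) (parB k) = k ∧
      ∀ x, x < 324 → op k x =
        op (natAt sidx (parG k)) (op (parB k) (op (natAt sidx (parG k)) x)) := by
  have h : rowOK5 k = true := by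
    by_cases a : k < 54
    · exact rangeAll_spec row_ok_0 k (by omega) (by omega)
    by_cases b : k < 108
    · exact rangeAll_spec row_ok_54 k (by omega) (by omega)
    by_cases c : k < 162
    · exact rangeAll_spec row_ok_108 k (by omega) (by omega)
    by_cases d : k < 216
    · exact rangeAll_spec row_ok_162 k (by omega) (by omega)
    by_cases e : k < 270
    · exact rangeAll_spec row_ok_216 k (by omega) (by omega)
    · exact rangeAll_spec row_ok_270 k (by omega) (by omega)
  have hb : Nat.beq k 0 = false := Bool.eq_false_iff.mpr fun e => h0 (beq_iff.mp e)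
  simp only [rowOK5, force_eq, iteB_eq, hb, cond_false, andB_eq, Bool.and_eq_true, beq_iff,
    blt_iff] at h
  exact ⟨h.1, h.2.1, h.2.2.1, fun x hx =>
    beq_iff.mp (rangeAll_spec h.2.2.2 x (Nat.zero_le _) (by omega))⟩

theorem member_row : ∀ k, k < 324 → ∀ i, i < 324 →
    op k i < 324 ∧ app (tr (fpt k)) (fpt i) = fpt (op k i) := by
  intro k
  induction k using Nat.strongRecOn with
  | _ k IH =>
    intro hk i hi
    by_cases h0 : k = 0
    · have h := gen_row (g := 0) (by norm_num) hi
      rw [sidx_zero.2] at h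
      rw [h0]
      exact h
    · obtain ⟨hg, hb, he, hrow⟩ := row_spec hk h0
      have h1 := gen_row hg hi
      have h2 := IH _ hb (by omega) _ h1.1
      have h3 := gen_row hg h2.1
      have e := (gen_row hg (i := parB k) (by omega)).2
      rw [he] at e
      refine ⟨hrow i hi ▸ h3.1, ?_⟩
      rw [← e, tr_app_tr (fpt_lt (sidx_lt' hg)) (fpt_lt (by omega)), app_mul, app_mul, h1.2, h2.2,
        h3.2, ← hrow i hi]

/-- conjugation on the members -/
noncomputable def fop (a b : Fin 324) : Fin 324 := ⟨op a b, (member_row a a.2 b b.2).1⟩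

/-- the point of a member -/
noncomputable def fp (a : Fin 324) : ℕ := fpt a

theorem fp_lt (a : Fin 324) : fp a < 31671 := fpt_lt a.2

theorem fp_inj : Function.Injective fp := fun a b h => Fin.ext (fpt_inj a.2 b.2 h)

theorem app_fop (a b : Fin 324) : app (tr (fp a)) (fp b) = fp (fop a b) :=
  (member_row a a.2 b b.2).2

theorem fop_fop (a b x : Fin 324) : fop (fop a b) x = fop a (fop b (fop a x)) := by
  apply fp_inj
  rw [← app_fop, ← app_fop a b, tr_app_tr (fp_lt a) (fp_lt b), app_mul, app_mul, app_fop, app_fop,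
    app_fop]

/-- the setwise stabilizer of the members -/
noncomputable def memStab : Subgroup G :=
  haveI : Finite G := Cfsg.Agent.S1697.order_le.1
  { carrier := {g | ∀ a : Fin 324, ∃ b : Fin 324, app g (fp a) = fp b}
    one_mem' := fun a => ⟨a, app_one _⟩
    mul_mem' := by
      intro g h hg hh a
      obtain ⟨b, hb⟩ := hh a
      obtain ⟨c, hc⟩ := hg b
      exact ⟨c, by rw [app_mul, hb, hc]⟩
    inv_mem' := by
      intro g hg a
      let s : Fin 324 → Fin 324 := fun a => (hg a).choose
      have hs : ∀ a, app g (fp a) = fp (s a) := fun a => (hg a).choose_spec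
      have hsurj : Function.Surjective s := Finite.surjective_of_injective fun a b h =>
        fp_inj (app_injective g (by rw [hs, hs, h]))
      obtain ⟨b, rfl⟩ := hsurj a
      exact ⟨b, by rw [← hs, app_inv_app]⟩ }

theorem mem_memStab {g : G} : g ∈ memStab ↔ ∀ a : Fin 324, ∃ b : Fin 324, app g (fp a) = fp b :=
  Iff.rfl

theorem tr_fp_mem (a : Fin 324) : tr (fp a) ∈ memStab := fun b => ⟨fop a b, app_fop a b⟩

/-- the image of a member -/
noncomputable def img (g : memStab) (a : Fin 324) : Fin 324 := (g.2 a).choose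

theorem app_img (g : memStab) (a : Fin 324) : app g.1 (fp a) = fp (img g a) :=
  (g.2 a).choose_spec

theorem img_mul (g h : memStab) (a : Fin 324) : img (g * h) a = img g (img h a) := by
  apply fp_inj
  rw [← app_img, ← app_img, ← app_img, ← app_mul]
  rfl

theorem img_inj (g : memStab) : Function.Injective (img g) := fun a b h =>
  fp_inj (app_injective g.1 (by rw [app_img, app_img, h]))

/-- the action of the stabilizer on the members -/
noncomputable def psi : memStab →* Equiv.Perm (Fin 324) :=
  MonoidHom.mk' (fun g => Equiv.ofBijective (img g) (Finite.injective_iff_bijective.mp (img_inj g)))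
    fun g h => Equiv.ext fun a => img_mul g h a

theorem psi_spec (g : memStab) (a : Fin 324) : app g.1 (fp a) = fp (psi g a) := app_img g a

/-- the symmetries of the conjugation table -/
noncomputable def symGrp : Subgroup (Equiv.Perm (Fin 324)) where
  carrier := {σ | ∀ a b, σ (fop a b) = fop (σ a) (σ b)}
  one_mem' := fun _ _ => rfl
  mul_mem' := by
    intro σ τ hσ hτ a b
    simp only [Equiv.Perm.mul_apply]
    rw [hτ, hσ]
  inv_mem' := by
    intro σ hσ a b
    refine σ.injective ?_
    rw [hσ, Equiv.Perm.inv_def, Equiv.apply_symm_apply, Equiv.apply_symm_apply,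
      Equiv.apply_symm_apply]

theorem psi_mem (g : memStab) : psi g ∈ symGrp := by
  intro a b
  apply fp_inj
  rw [← psi_spec, ← app_fop, ← app_fop, ← psi_spec, ← psi_spec,
    tr_conj (fp_lt a), ← app_mul, ← app_mul]
  congr 1
  group

end Cfsg.Agent.Lib.FiTwentyThreeMax
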