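import Cfsg.Agent.Lib.Burnside.Paqb
import Cfsg.Agent.Lib.FiTwentyThreeMax.Chain
import Cfsg.Agent.Lib.FiTwentyThreeMax.ChecksLift

/-!
The setwise stabilizer of the 324 members is maximal and solvable.
-/

namespace Cfsg.Agent.Lib.FiTwentyThreeMax

open Cfsg.Agent.Lib.CosetTable
open Cfsg

local notation "G" => Spor.Fi23
local notation "gn" => Cfsg.Agent.S1697.gn

theorem dag_sound (P : ℕ → Prop)
    (h0 : ∀ a b, a < 31671 → b < 31671 → P a → P b → P (app (tr a) b))
    (hw : ∀ i, i < l0w.length → lw (l0w.getD i []) = true) :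
    ∀ (L : List (ℕ × ℕ × ℕ × ℕ × List ℕ)) (known : List (ℕ × List ℕ)),
      (∀ e ∈ L, e.1 ≠ 0 → e.2.1 < l0w.length → ∀ b, b < 31671 → P b →
        P (app (eval gn (l0w.getD e.2.1 [])) b)) →
      (∀ e ∈ known, pOK e.2 e.1 = true ∧ P e.1) → dagOK L known = true →
      ∀ e ∈ genPts, P e.1
  | [], known, _, hk, h, e, he => by
    simp only [dagOK, List.all_eq_true, List.any_eq_true, beq_iff] at h
    obtain ⟨f, hf, hfe⟩ := h e he
    exact hfe ▸ (hk f hf).2
  | (kd, i, j, p, x) :: r, known, h1, hk, h, e, he => by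
    simp only [dagOK, Bool.and_eq_true, decide_eq_true_eq] at h
    obtain ⟨⟨⟨hp, hr⟩, hj⟩, hstep⟩ := h
    have hgj := hk _ (show known.getD j (0, []) ∈ known by
      rw [List.getD_eq_getElem _ _ hj]; exact List.getElem_mem hj)
    have hjl := (pOK_spec hgj.1).2.2
    refine dag_sound P h0 hw r (known ++ [(p, x)]) (fun f hf => h1 f (List.mem_cons_of_mem _ hf))
      (fun f hf => ?_) hr e he
    rcases List.mem_append.mp hf with hf | hf
    · exact hk f hf
    rw [List.mem_singleton.mp hf]
    refine ⟨hp, ?_⟩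
    by_cases hkd : kd = 0
    · rw [if_pos hkd] at hstep
      simp only [Bool.and_eq_true, decide_eq_true_eq, beq_iff] at hstep
      have hgi := hk _ (show known.getD i (0, []) ∈ known by
        rw [List.getD_eq_getElem _ _ hstep.1]; exact List.getElem_mem hstep.1)
      have := h0 _ _ (pOK_spec hgi.1).2.2 hjl hgi.2 hgj.2
      rw [app_tr hgi.1 hjl, hstep.2] at this
      exact this
    · rw [if_neg hkd] at hstep
      simp only [Bool.and_eq_true, decide_eq_true_eq, beq_iff] at hstep
      have := h1 (kd, i, j, p, x) List.mem_cons_self hkd hstep.1 _ hjl hgj.2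
      rw [app_word (hw i hstep.1) hjl, hstep.2] at this
      exact this

theorem gn_eq {a : ℕ} (ha : a < 10) :
    gn a = tr (genPts.getD a (0, [])).1 ∧ (genPts.getD a (0, [])) ∈ genPts ∧
      (genPts.getD a (0, [])).1 < 31671 := by
  have h := rangeAll_spec genPts_ok a (Nat.zero_le _) (by omega)
  simp only [andB_eq, Bool.and_eq_true] at h
  have e := eq_of_eqB h.2
  rw [tr_word h.1] at e
  have hl : genPts.length = 10 := by decide +kernel
  exact ⟨by simpa [eval] using e,
    by rw [List.getD_eq_getElem _ _ (by omega)]; exact List.getElem_mem _, (pOK_spec h.1).2.2⟩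

theorem closure_gn : ∀ K : Subgroup G, (∀ a, a < 10 → gn a ∈ K) → K = ⊤ := by
  intro K hK
  rw [eq_top_iff, ← Cfsg.Agent.S1697.model_act.gen]
  exact (Subgroup.closure_le _).mpr fun x ⟨a, ha, e⟩ => e ▸ hK a ha

theorem l0w_spec : l0w.length = 6 ∧ ∀ i, i < 6 → ∃ P, liftOK (l0w.getD i []) P = true := by
  refine ⟨by decide +kernel, fun i hi => ?_⟩
  interval_cases i
  exacts [⟨_, lift_ok_0⟩, ⟨_, lift_ok_1⟩, ⟨_, lift_ok_2⟩, ⟨_, lift_ok_3⟩, ⟨_, lift_ok_4⟩,
    ⟨_, lift_ok_5⟩]

theorem liftOK_spec {w : List ℕ} {P : ℕ} (h : liftOK w P = true) :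
    lw w = true ∧ ∀ a : Fin 324, at16 P a < 324 ∧ app (eval gn w) (fp a) = fpt (at16 P a) := by
  simp only [liftOK, andB_eq, Bool.and_eq_true] at h
  refine ⟨h.1, fun a => ?_⟩
  have h' := rangeAll_spec h.2 a (Nat.zero_le _) (by omega)
  simp only [Bool.and_eq_true, blt_iff, beq_iff] at h'
  exact ⟨h'.1, by rw [app_word h.1 (fp_lt a)]; exact h'.2⟩

theorem lift_mem {w : List ℕ} {P : ℕ} (h : liftOK w P = true) : eval gn w ∈ memStab := fun a =>
  ⟨⟨at16 P a, ((liftOK_spec h).2 a).1⟩, ((liftOK_spec h).2 a).2⟩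

theorem psi_lift {w : List ℕ} {i : ℕ} (hi : i < permTab.length) (h : liftOK w (pTab i) = true) :
    psi ⟨eval gn w, lift_mem h⟩ = pPerm i := by
  refine Equiv.ext fun a => fp_inj ?_
  rw [← psi_spec]
  refine ((liftOK_spec h).2 a).2.trans ?_
  rw [fp, pPerm_apply hi]

theorem l0_mem {i : ℕ} (hi : i < l0w.length) :
    lw (l0w.getD i []) = true ∧ eval gn (l0w.getD i []) ∈ memStab := by
  rw [l0w_spec.1] at hi
  obtain ⟨P, hP⟩ := l0w_spec.2 i hi
  exact ⟨(liftOK_spec hP).1, lift_mem hP⟩

/-- seeds of a derivation are points with their paths -/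
theorem seed_pOK {d : List (ℕ × List ℕ) × List (ℕ × ℕ × ℕ × ℕ × List ℕ)}
    (hd : d ∈ baseDag :: repDags) : ∀ e ∈ d.1, pOK e.2 e.1 = true := fun e he =>
  List.all_eq_true.mp (List.all_eq_true.mp seeds_ok d hd) e he

/-- the element fixing all members -/
noncomputable def zel : G := eval gn zw

theorem zel_spec : (∀ a : Fin 324, app zel (fp a) = fp a) ∧ app zel 0 = natAt zImgs 1 ∧
    app zel (natAt zImgs 1) = natAt zImgs 2 := by
  have h := zw_ok
  simp only [Bool.and_eq_true, beq_iff] at h
  obtain ⟨⟨⟨hl, hf⟩, h1⟩, h2⟩ := h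
  have h1' : app zel 0 = natAt zImgs 1 := by rw [zel, app_word hl (by norm_num), h1]
  refine ⟨fun a => ?_, h1', ?_⟩
  · rw [zel, app_word hl (fp_lt a)]
    exact beq_iff.mp (rangeAll_spec hf a (Nat.zero_le _) (by omega))
  · rw [zel, app_word hl (h1' ▸ app_lt _ (by norm_num)), h2]

theorem zel_mem : zel ∈ memStab := fun a => ⟨a, zel_spec.1 a⟩

theorem probe_member {q : List ℕ × Bool} (hq : q ∈ probes) :
    ∃ a : Fin 324, pOK q.1 (fp a) = true := by
  have h : ((probes.zip probeIdx).all fun e => Nat.blt e.2 324 && pOK e.1.1 (fpt e.2)) &&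
      Nat.beq probes.length probeIdx.length = true := by decide +kernel
  simp only [Bool.and_eq_true, List.all_eq_true, beq_iff, blt_iff, decide_eq_true_eq] at h
  obtain ⟨i, hi, rfl⟩ := List.getElem_of_mem hq
  have hi' : i < probeIdx.length := by have := h.2; omega
  have := h.1 (probes[i], probeIdx[i]) (by
    rw [List.mem_iff_getElem]
    exact ⟨i, by simp [hi', hi], List.getElem_zip⟩)
  exact ⟨⟨_, this.1⟩, this.2⟩

theorem probeAll_zero : probeAll 0 = true := by decide +kernel

theorem orbit_zero {g : G} (hg : ∀ a : Fin 324, app g (fp a) = fp a) :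
    app g 0 = 0 ∨ app g 0 = natAt zImgs 1 ∨ app g 0 = natAt zImgs 2 := by
  have hp := app_lt g (p := 0) (by norm_num)
  have h := probe_ok _ hp
  have hall : probeAll (app g 0) = true := by
    have key : ∀ q ∈ probes, Nat.beq (tAct q.1 (app g 0)) (app g 0) =
        Nat.beq (tAct q.1 0) 0 := by
      intro q hq
      obtain ⟨a, ha⟩ := probe_member hq
      rw [← app_tr ha hp, ← app_tr ha (by norm_num : (0 : ℕ) < 31671)]
      have e : tr (fp a) = g * tr (fp a) * g⁻¹ := by
        conv_lhs => rw [← hg a]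
        exact tr_conj (fp_lt a) g
      have e' : app (tr (fp a)) (app g 0) = app g (app (tr (fp a)) 0) := by
        conv_lhs => rw [e]
        rw [app_mul, app_mul, app_inv_app]
      rw [e', Bool.eq_iff_iff, beq_iff, beq_iff]
      exact (app_injective g).eq_iff
    have h0 := probeAll_zero
    unfold probeAll at h0 ⊢
    generalize probes = L at key h0 ⊢
    induction L with
    | nil => rfl
    | cons q L ih =>
      have h0' : andB (Bool.rec (motive := fun _ => Bool)
          (Bool.rec (motive := fun _ => Bool) true false (Nat.beq (tAct q.1 0) 0))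
          (Nat.beq (tAct q.1 0) 0) q.2) (allL _ L) = true := h0
      show andB _ _ = true
      rw [andB_eq, Bool.and_eq_true] at h0' ⊢
      refine ⟨?_, ih (fun r hr => key r (List.mem_cons_of_mem _ hr)) h0'.2⟩
      show Bool.rec (motive := fun _ => Bool)
          (Bool.rec (motive := fun _ => Bool) true false (Nat.beq (tAct q.1 (app g 0)) (app g 0)))
          (Nat.beq (tAct q.1 (app g 0)) (app g 0)) q.2 = true
      rw [key q (by simp)]
      exact h0'.1
  simp only [probeOK, hall, iteB_eq, cond_true] at h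
  cases e1 : Nat.beq (app g 0) 0
  · cases e2 : Nat.beq (app g 0) (natAt zImgs 1)
    · rw [e1, e2] at h
      exact Or.inr (Or.inr (beq_iff.mp h))
    · exact Or.inr (Or.inl (beq_iff.mp e2))
  · exact Or.inl (beq_iff.mp e1)

theorem eq_one_of_fix {g : G} (hg : ∀ a : Fin 324, app g (fp a) = fp a) (h0 : app g 0 = 0) :
    g = 1 := by
  have hgen : ∀ e ∈ genPts, app g e.1 = e.1 := by
    refine dag_sound (fun p => app g p = p) ?_ (fun i hi => (l0_mem hi).1) baseDag.2 baseDag.1 ?_
      (fun e he => ⟨seed_pOK (List.mem_cons_self) e he, ?_⟩) baseDag_ok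
    · intro a b ha _ hga hgb
      have e : g * tr a * g⁻¹ = tr a := by rw [← tr_conj ha, hga]
      have e' : g * tr a = tr a * g := mul_inv_eq_iff_eq_mul.mp e
      rw [← app_mul, e', app_mul, hgb]
    · intro e he hne
      have h := baseSeeds_ok
      simp only [Bool.and_eq_true, List.all_eq_true, beq_iff, decide_eq_true_eq] at h
      exact absurd (h.2 e he) hne
    · have h := baseSeeds_ok
      simp only [Bool.and_eq_true, List.all_eq_true, Bool.or_eq_true, beq_iff, List.any_eq_true,
        List.mem_range] at h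
      rcases h.1 e he with e0 | ⟨i, hi, e0⟩
      · rw [e0]; exact h0
      · rw [← e0]; exact hg ⟨i, hi⟩
  have hc : g ∈ Subgroup.center G := by
    rw [Subgroup.mem_center_iff]
    intro x
    have hx : x ∈ Subgroup.centralizer ({g} : Set G) := by
      suffices hK : Subgroup.centralizer ({g} : Set G) = ⊤ from hK ▸ Subgroup.mem_top x
      refine closure_gn _ fun a ha => ?_
      rw [Subgroup.mem_centralizer_singleton_iff]
      obtain ⟨e, hm, hlt⟩ := gn_eq ha
      have e2 := tr_conj hlt g
      rw [hgen _ hm] at e2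
      rw [e]
      exact (mul_inv_eq_iff_eq_mul.mp e2.symm).symm
    exact (Subgroup.mem_centralizer_singleton_iff.mp hx)
  rw [center_eq_bot] at hc
  exact Subgroup.mem_bot.mp hc
where
  center_eq_bot : Subgroup.center G = ⊥ := by
    haveI := Cfsg.Agent.S1697.order_le.1
    haveI : IsSimpleGroup G := Cfsg.Agent.S1697.result.1
    rcases (inferInstance : (Subgroup.center G).Normal).eq_bot_or_eq_top with h | h
    · exact h
    · exfalso
      letI : CommGroup G :=
        { (inferInstance : Group G) with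
          mul_comm := fun a b => (Subgroup.mem_center_iff.mp (h ▸ Subgroup.mem_top b) a) }
      have hp := (IsSimpleGroup.prime_card (α := G))
      rw [Cfsg.Agent.S1697.result.2] at hp
      exact absurd hp (by norm_num)

theorem fix_members {g : G} (hg : ∀ a : Fin 324, app g (fp a) = fp a) :
    g ∈ Subgroup.zpowers zel := by
  obtain ⟨hz, hz1, hz2⟩ := zel_spec
  rcases orbit_zero hg with h | h | h
  · rw [eq_one_of_fix hg h]; exact one_mem _
  · have : zel⁻¹ * g = 1 := eq_one_of_fix
      (fun a => by rw [app_mul, hg, app_eq_self_inv (hz a)])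
      (by rw [app_mul, h, ← hz1, app_inv_app])
    rw [← inv_mul_eq_one.mp this]; exact Subgroup.mem_zpowers _
  · have : (zel * zel)⁻¹ * g = 1 := eq_one_of_fix
      (fun a => by
        rw [app_mul, hg, app_eq_self_inv]
        rw [app_mul, hz, hz])
      (by rw [app_mul, h, ← hz2, ← hz1, ← app_mul zel zel, app_inv_app])
    rw [← inv_mul_eq_one.mp this]
    exact mul_mem (Subgroup.mem_zpowers _) (Subgroup.mem_zpowers _)

theorem isSolvable_memStab : Group.IsSolvable memStab := by
  haveI : Finite G := Cfsg.Agent.S1697.order_le.1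
  haveI : Group.IsSolvable symGrp :=
    Cfsg.Agent.Lib.Burnside.isSolvable_of_card_eq_prime_pow_mul Nat.prime_two Nat.prime_three
      card_symGrp
  haveI : Group.IsSolvable psi.ker := by
    refine Group.isSolvable_of_comm fun a b => ?_
    have key : ∀ c : psi.ker, (c : memStab).1 ∈ Subgroup.zpowers zel := fun c =>
      fix_members fun x => by rw [psi_spec, c.2, Equiv.Perm.one_apply]
    obtain ⟨m, hm⟩ := Subgroup.mem_zpowers_iff.mp (key a)
    obtain ⟨n, hn⟩ := Subgroup.mem_zpowers_iff.mp (key b)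
    refine Subtype.ext (Subtype.ext ?_)
    show (a : memStab).1 * (b : memStab).1 = (b : memStab).1 * (a : memStab).1
    rw [← hm, ← hn, ← zpow_add, ← zpow_add, add_comm]
  exact Group.isSolvable_of_ker_le_range psi.ker.subtype
    (psi.codRestrict symGrp psi_mem) (by
      rw [MonoidHom.ker_codRestrict, Subgroup.range_subtype])

theorem not_mem_of_step {s : Fin 324} {p : ℕ} (hp : ∀ a : Fin 324, p ≠ fp a) :
    ∀ a : Fin 324, app (tr (fp s)) p ≠ fp a := fun a e => hp (fop s a) (by
  rw [← app_fop, ← e, ← app_mul, tr_mul_self (fp_lt s), app_one])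

theorem rep_of_point (K : Subgroup G) (hH : memStab ≤ K) :
    ∀ n p, p < 31671 → cRank (codeAt p) = n → (∀ a : Fin 324, p ≠ fp a) → tr p ∈ K →
      ∃ r < 5, natAt reps r < 31671 ∧ tr (natAt reps r) ∈ K := by
  intro n
  induction n using Nat.strongRecOn with
  | _ n IH =>
    intro p hp hn hout hK
    have h := code_ok p hp
    simp only [codeOK, force_eq, iteB_eq] at h
    cases e6 : Nat.beq (cKind (codeAt p)) 6
    · rw [e6, cond_false] at h
      cases e7 : Nat.beq (cKind (codeAt p)) 7
      · rw [e7, cond_false] at h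
        simp only [andB_eq, Bool.and_eq_true, blt_iff, beq_iff] at h
        obtain ⟨hk, hv, he, hr⟩ := h
        have hs := spath_pOK hk
        have e : app (tr (fp ⟨natAt sidx (cKind (codeAt p)), sidx_lt' hk⟩)) p =
            cVal (codeAt p) := by
          exact (app_tr hs hp).trans he
        refine IH _ (hn ▸ hr) _ hv rfl (fun a => e ▸ not_mem_of_step hout a) ?_
        rw [← e, tr_app_tr (fp_lt _) hp]
        exact mul_mem (mul_mem (hH (tr_fp_mem _)) hK) (hH (tr_fp_mem _))
      · rw [e7, cond_true] at h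
        simp only [andB_eq, Bool.and_eq_true, blt_iff, beq_iff] at h
        exact ⟨cVal (codeAt p), h.1, by rw [h.2]; exact hp, by rw [h.2]; exact hK⟩
    · rw [e6, cond_true] at h
      simp only [andB_eq, Bool.and_eq_true, blt_iff, beq_iff] at h
      exact absurd h.2.symm (hout ⟨_, h.1⟩)

theorem top_of_rep (K : Subgroup G) (hH : memStab ≤ K) {r : ℕ} (hr : r < 5)
    (hK : tr (natAt reps r) ∈ K) : K = ⊤ := by
  have hs := repSeeds_ok
  simp only [List.all_eq_true, List.mem_range, Bool.and_eq_true, decide_eq_true_eq,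
    Bool.or_eq_true, beq_iff, List.any_eq_true] at hs
  obtain ⟨hlen, hseed⟩ := hs r hr
  have hd : dagOK (repDags.getD r ([], [])).2 (repDags.getD r ([], [])).1 = true := by
    interval_cases r
    exacts [repDag_ok_0, repDag_ok_1, repDag_ok_2, repDag_ok_3, repDag_ok_4]
  have hgen : ∀ e ∈ genPts, tr e.1 ∈ K := by
    refine dag_sound (fun p => tr p ∈ K) ?_ (fun i hi => (l0_mem hi).1) _ _ ?_
      (fun e he => ⟨seed_pOK (List.mem_cons_of_mem _ ?_) e he, ?_⟩) hd
    · intro a b ha hb hKa hKb
      rw [tr_app_tr ha hb]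
      exact mul_mem (mul_mem hKa hKb) hKa
    · intro e _ _ hi b hb hKb
      rw [tr_conj hb]
      exact mul_mem (mul_mem (hH (l0_mem hi).2) hKb) (inv_mem (hH (l0_mem hi).2))
    · rw [List.getD_eq_getElem _ _ hlen]; exact List.getElem_mem hlen
    · rcases hseed e he with e0 | ⟨i, hi, e0⟩
      · rw [e0]; exact hK
      · rw [← e0]; exact hH (tr_fp_mem ⟨i, hi⟩)
  exact closure_gn K fun a ha => (gn_eq ha).1 ▸ hgen _ (gn_eq ha).2.1

theorem memStab_ne_top : memStab ≠ (⊤ : Subgroup G) := by
  intro h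
  have hc : (List.range 10).any (fun a => !Nat.beq (cKind (codeAt (wk [a] (fpt 0)))) 6) = true := by
    decide +kernel
  obtain ⟨a, ha, hc⟩ := List.any_eq_true.mp hc
  have hl : lw [a] = true := by
    show andB (Nat.blt a 10) true = true
    rw [andB_eq, Bool.and_true, blt_iff]; exact List.mem_range.mp ha
  obtain ⟨b, hb⟩ := (h ▸ Subgroup.mem_top (eval gn [a]) : eval gn [a] ∈ memStab) 0
  rw [app_word hl (fp_lt 0)] at hb
  rw [show fpt 0 = fp 0 from rfl, hb, show fp b = fpt b from rfl, (fpt_spec b.2).2.1] at hc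
  exact absurd hc (by decide)

theorem isCoatom_memStab : IsCoatom (memStab : Subgroup G) := by
  refine ⟨memStab_ne_top, fun K hK => ?_⟩
  obtain ⟨k, hk, hknot⟩ := SetLike.exists_of_lt hK
  rw [mem_memStab] at hknot
  push Not at hknot
  obtain ⟨a, ha⟩ := hknot
  have hp := app_lt k (fp_lt a)
  have hKp : tr (app k (fp a)) ∈ K := by
    rw [tr_conj (fp_lt a)]
    exact mul_mem (mul_mem hk (hK.le (tr_fp_mem a))) (inv_mem hk)
  obtain ⟨r, hr, -, hrK⟩ := rep_of_point K hK.le _ _ hp rfl ha hKp
  exact top_of_rep K hK.le hr hrK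

end Cfsg.Agent.Lib.FiTwentyThreeMax
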